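import Cfsg.Agent.Lib.ZJ.RealTwo
import Cfsg.Agent.Lib.OddOrder.Solvable
import Cfsg.Agent.Lib.ClassGraph.Basic
import Cfsg.Agent.Lib.Coprime.SchurZassenhaus

/-!
Real elements, groups with a normal Sylow `2`-subgroup, lifting of real elements.
-/

set_option autoImplicit false
set_option linter.style.haveILetI false

namespace CfsgLib.RealClassGraph

open CfsgLib.CentMaxNormal

universe u

variable {G : Type u} [Group G]

/-- Conjugate to its inverse. -/
def IsReal (x : G) : Prop := ∃ g : G, g * x * g⁻¹ = x⁻¹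

theorem isReal_iff_isConj (x : G) : IsReal x ↔ IsConj x x⁻¹ := isConj_iff.symm

theorem IsReal.pow {x : G} (h : IsReal x) (n : ℕ) : IsReal (x ^ n) := by
  obtain ⟨g, hg⟩ := h
  exact ⟨g, by rw [← conj_pow, hg, inv_pow]⟩

theorem IsReal.map {G' : Type*} [Group G'] {x : G} (h : IsReal x) (f : G →* G') : IsReal (f x) := by
  obtain ⟨g, hg⟩ := h
  exact ⟨f g, by rw [← map_inv, ← map_mul, ← map_mul, hg, map_inv]⟩

theorem isReal_of_sq {x : G} (h : x * x = 1) : IsReal x :=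
  ⟨1, by rw [one_mul, inv_one, mul_one, inv_eq_of_mul_eq_one_right h]⟩

theorem isReal_conj {x : G} (h : IsReal x) (g : G) : IsReal (g * x * g⁻¹) :=
  h.map (MulAut.conj g).toMonoidHom

theorem eq_one_of_odd_of_sq [Finite G] {x : G} (ho : Odd (orderOf x)) (h : x * x = 1) : x = 1 :=
  orderOf_eq_one_iff.mp (Nat.eq_one_of_dvd_coprimes (Nat.coprime_two_right.mpr ho) dvd_rfl
    (orderOf_dvd_of_pow_eq_one (by rw [pow_two, h])))

theorem eq_one_of_odd_of_eq_inv [Finite G] {x : G} (ho : Odd (orderOf x)) (h : x = x⁻¹) : x = 1 :=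
  eq_one_of_odd_of_sq ho (by nth_rewrite 2 [h]; exact mul_inv_cancel x)

theorem exists_odd_part [Finite G] (x : G) :
    ∃ a : ℕ, Odd (orderOf (x ^ 2 ^ a)) ∧ (x ^ 2 ^ a = 1 → ∃ k, x ^ 2 ^ k = 1) := by
  obtain ⟨a, m, hm, hx⟩ := Nat.exists_eq_two_pow_mul_odd (orderOf_pos x).ne'
  exact ⟨a, hm.of_dvd_nat (orderOf_dvd_of_pow_eq_one
    (by rw [← pow_mul, ← hx, pow_orderOf_eq_one])), fun h => ⟨a, h⟩⟩

theorem normal_sylow_two_of_forall [Finite G] (h : ∀ x : G, IsReal x → Odd (orderOf x) → x = 1)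
    (P : Sylow 2 G) : (P : Subgroup G).Normal := by
  refine ZJ.normal_sylow_two_of_no_real (fun q hq hq2 hr => ?_) P
  obtain ⟨x, -, g, -, hx1, ⟨k, hk⟩, hgx⟩ := hr
  exact hx1 (h x ⟨g, hgx⟩ ((hq.odd_of_ne_two hq2).pow.of_dvd_nat (orderOf_dvd_of_pow_eq_one hk)))

theorem solvable_of_normal [Finite G] (N : Subgroup G) [N.Normal] (hN : Group.IsSolvable N)
    (hQ : Group.IsSolvable (G ⧸ N)) : Group.IsSolvable G := by
  haveI := hN
  haveI := hQ
  exact Group.isSolvable_of_ker_le_range N.subtype (QuotientGroup.mk' N)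
    (by rw [QuotientGroup.ker_mk', Subgroup.range_subtype])

theorem solvable_of_odd [Finite G] (h : Odd (Nat.card G)) : Group.IsSolvable G :=
  OddOrder.solvable_of_odd _ G rfl h

theorem solvable_of_normal_sylow_two [Finite G] (P : Sylow 2 G) (hP : (P : Subgroup G).Normal) :
    Group.IsSolvable G := by
  haveI := hP
  haveI : Fact (Nat.Prime 2) := ⟨Nat.prime_two⟩
  haveI : Group.IsNilpotent P := P.2.isNilpotent
  refine solvable_of_normal (P : Subgroup G) inferInstance (solvable_of_odd ?_)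
  rw [← Subgroup.index_eq_card, ← Nat.not_even_iff_odd, even_iff_two_dvd]
  exact P.not_dvd_index

theorem eq_one_of_real_of_normal_sylow_two [Finite G] (P : Sylow 2 G)
    (hP : (P : Subgroup G).Normal) {x : G} (hr : IsReal x) (ho : Odd (orderOf x)) : x = 1 := by
  haveI := hP
  haveI : Fact (Nat.Prime 2) := ⟨Nat.prime_two⟩
  obtain ⟨g, hg⟩ := hr
  obtain ⟨i, -, ⟨k, hk⟩, hix⟩ := ZJ.exists_two_inverter hg
  obtain ⟨Q, hQ⟩ := (ZJ.isPGroup_zpowers_of_pow (p := 2) ⟨k, hk⟩).exists_le_sylow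
  haveI := Sylow.unique_of_normal P hP
  have hiP : i ∈ (P : Subgroup G) := Subsingleton.elim Q P ▸ hQ (Subgroup.mem_zpowers i)
  have h1 : i * (x * i⁻¹ * x⁻¹) ∈ (P : Subgroup G) :=
    mul_mem hiP (Subgroup.Normal.conj_mem inferInstance _ (inv_mem hiP) x)
  rw [show i * (x * i⁻¹ * x⁻¹) = i * x * i⁻¹ * x⁻¹ by group, hix] at h1
  obtain ⟨j, hj⟩ := P.2 ⟨_, h1⟩
  refine eq_one_of_odd_of_sq ho (inv_injective ?_)
  rw [inv_one, mul_inv_rev]
  have hj' : (x⁻¹ * x⁻¹) ^ 2 ^ j = 1 := congrArg Subtype.val hj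
  rw [← orderOf_eq_one_iff]
  refine Nat.eq_one_of_dvd_coprimes ((Nat.coprime_two_left.mpr ho).pow_left j)
    (orderOf_dvd_of_pow_eq_one hj') ?_
  rw [← mul_inv_rev, orderOf_inv, ← pow_two]
  exact orderOf_pow_dvd 2

section Sub

variable [Finite G] {H : Subgroup G} (S : Sylow 2 G)

theorem normal_sylow_in (hSH : (S : Subgroup G) ≤ H)
    (hHS : H ≤ Subgroup.normalizer ((S : Subgroup G) : Set G)) :
    ((S.subtype hSH : Sylow 2 H) : Subgroup H).Normal := by
  rw [Sylow.coe_subtype]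
  exact Subgroup.normal_subgroupOf_iff_le_normalizer hSH |>.mpr hHS

theorem solvable_of_le_normalizer (hSH : (S : Subgroup G) ≤ H)
    (hHS : H ≤ Subgroup.normalizer ((S : Subgroup G) : Set G)) : Group.IsSolvable H :=
  solvable_of_normal_sylow_two _ (normal_sylow_in S hSH hHS)

theorem eq_one_of_real_mem (hSH : (S : Subgroup G) ≤ H)
    (hHS : H ≤ Subgroup.normalizer ((S : Subgroup G) : Set G)) {x g : G} (hx : x ∈ H) (hg : g ∈ H)
    (hgx : g * x * g⁻¹ = x⁻¹) (ho : Odd (orderOf x)) : x = 1 :=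
  congrArg Subtype.val (eq_one_of_real_of_normal_sylow_two _ (normal_sylow_in S hSH hHS)
    (x := (⟨x, hx⟩ : H)) ⟨⟨g, hg⟩, Subtype.ext hgx⟩ (by rwa [Subgroup.orderOf_mk]))

theorem mem_sylow_of_two_element {u : G} (hu : ∃ k : ℕ, u ^ 2 ^ k = 1)
    (hn : u ∈ Subgroup.normalizer ((S : Subgroup G) : Set G)) : u ∈ (S : Subgroup G) := by
  haveI : Fact (Nat.Prime 2) := ⟨Nat.prime_two⟩
  have h := (ZJ.isPGroup_zpowers_of_pow (p := 2) hu).to_sup_of_normal_right' S.2
    (Subgroup.zpowers_le.mpr hn)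
  rw [← S.is_maximal' h le_sup_right]
  exact Subgroup.mem_sup_left (Subgroup.mem_zpowers u)

end Sub

/-- The class of a real element different from its inverse has even size. -/
theorem two_dvd_index [Finite G] {x : G} (hr : IsReal x) (hne : x ≠ x⁻¹) :
    2 ∣ (cen x).index := by
  classical
  haveI : Fact (Nat.Prime 2) := ⟨Nat.prime_two⟩
  obtain ⟨g, hg⟩ := hr
  rw [← ClassGraph.card_cls]
  by_contra h2
  haveI := Fintype.ofFinite (ClassGraph.cls x)
  rw [Nat.card_eq_fintype_card] at h2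
  have hinv : ∀ y ∈ ClassGraph.cls x, y⁻¹ ∈ ClassGraph.cls x := by
    rintro _ ⟨k, rfl⟩
    refine ⟨k * g, ?_⟩
    show k * g * x * (k * g)⁻¹ = (k * x * k⁻¹)⁻¹
    calc k * g * x * (k * g)⁻¹ = k * (g * x * g⁻¹) * k⁻¹ := by group
      _ = _ := by rw [hg]; group
  let σ : Equiv.Perm (ClassGraph.cls x) :=
    { toFun := fun y => ⟨(y : G)⁻¹, hinv _ y.2⟩
      invFun := fun y => ⟨(y : G)⁻¹, hinv _ y.2⟩
      left_inv := fun y => Subtype.ext (inv_inv _)
      right_inv := fun y => Subtype.ext (inv_inv _) }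
  obtain ⟨⟨_, k, rfl⟩, hy⟩ := Equiv.Perm.exists_fixed_point_of_prime h2 (σ := σ) (n := 1)
    (by ext y; simp [pow_two, σ])
  apply hne
  have hy' : (k * x * k⁻¹)⁻¹ = k * x * k⁻¹ := congrArg Subtype.val hy
  calc x = k⁻¹ * (k * x * k⁻¹) * k := by group
    _ = k⁻¹ * (k * x * k⁻¹)⁻¹ * k := by rw [hy']
    _ = x⁻¹ := by group

theorem index_dvd_of_surjective {G' : Type*} [Group G'] (f : G →* G') (hf : Function.Surjective f)
    (x : G) : (cen (f x)).index ∣ (cen x).index := by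
  have h1 : (cen x).map f ≤ cen (f x) := by
    rintro _ ⟨c, hc, rfl⟩
    rw [mem_cen, ← map_mul, ← map_mul, mem_cen.mp hc]
  exact (Subgroup.index_dvd_of_le h1).trans ((cen x).index_map_dvd hf)

/-- A real element lifts along a kernel of odd order. -/
theorem real_lift_odd [Finite G] {G' : Type*} [Group G'] (f : G →* G') (hf : Function.Surjective f)
    (hk : Odd (Nat.card f.ker)) {x : G'} (hx : IsReal x) : ∃ y, f y = x ∧ IsReal y := by
  classical
  haveI : Fact (Nat.Prime 2) := ⟨Nat.prime_two⟩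
  obtain ⟨g', hg'⟩ := hx
  obtain ⟨g₀, rfl⟩ := hf g'
  obtain ⟨m, hm, k, hmk⟩ := ZJ.exists_two_part g₀
  have hg : f (g₀ ^ m) * x * (f (g₀ ^ m))⁻¹ = x⁻¹ := by
    rw [map_pow]; exact ZJ.inverts_pow_of_odd hg' hm
  set g := g₀ ^ m
  let F := {y : G // f y = x}
  have hσ : ∀ y : F, f (g * (y : G)⁻¹ * g⁻¹) = x := fun y => by
    rw [map_mul, map_mul, map_inv, map_inv, y.2, ← hg]
    calc f g * (f g * x * (f g)⁻¹) * (f g)⁻¹ = (f g * f g) * x * (f g * f g)⁻¹ := by group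
      _ = x := by
        have h2 : f g * x⁻¹ * (f g)⁻¹ = x := by rw [← conj_inv, hg, inv_inv]
        rw [show f g * f g * x * (f g * f g)⁻¹ = f g * (f g * x * (f g)⁻¹) * (f g)⁻¹ by group, hg, h2]
  let σf : F → F := fun y => ⟨g * (y : G)⁻¹ * g⁻¹, hσ y⟩
  have hinj : Function.Injective σf := fun a b e => Subtype.ext (by
    have := congrArg Subtype.val e
    simpa [σf] using this)
  let σ : Equiv.Perm F := Equiv.ofBijective σf (Finite.injective_iff_bijective.mp hinj)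
  have hpow : ∀ (n : ℕ) (y : F), (((σ ^ (2 * n)) y : F) : G) = g ^ (2 * n) * y * (g ^ (2 * n))⁻¹ := by
    intro n
    induction n with
    | zero => simp
    | succ n ih =>
      intro y
      rw [mul_add, mul_one, pow_succ' σ, pow_succ' σ, Equiv.Perm.mul_apply, Equiv.Perm.mul_apply]
      show g * (g * (((σ ^ (2 * n)) y : F) : G)⁻¹ * g⁻¹)⁻¹ * g⁻¹ = _
      rw [ih, pow_succ' g, pow_succ' g]
      group
  have h2k : σ ^ 2 ^ (k + 1) = 1 := by
    ext y
    rw [pow_succ', hpow, pow_mul, ← pow_mul, mul_comm, pow_mul, hmk, one_pow]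
    simp
  have hcard : ¬ 2 ∣ Nat.card F := by
    obtain ⟨y₀, hy₀⟩ := hf x
    rw [← even_iff_two_dvd, Nat.not_even_iff_odd]
    have e : F ≃ f.ker :=
      { toFun := fun y => ⟨y₀⁻¹ * (y : G), by
          rw [MonoidHom.mem_ker, map_mul, map_inv, hy₀, y.2, inv_mul_cancel]⟩
        invFun := fun c => ⟨y₀ * (c : G), by
          rw [map_mul, MonoidHom.mem_ker.mp c.2, hy₀, mul_one]⟩
        left_inv := fun y => Subtype.ext (mul_inv_cancel_left _ _)
        right_inv := fun c => Subtype.ext (inv_mul_cancel_left _ _) }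
    rwa [Nat.card_congr e]
  haveI := Fintype.ofFinite F
  rw [Nat.card_eq_fintype_card] at hcard
  obtain ⟨y, hy⟩ := Equiv.Perm.exists_fixed_point_of_prime hcard h2k
  refine ⟨y, y.2, g, ?_⟩
  have hy' : g * (y : G)⁻¹ * g⁻¹ = y := congrArg Subtype.val hy
  calc g * (y : G) * g⁻¹ = (g * (y : G)⁻¹ * g⁻¹)⁻¹ := by group
    _ = _ := by rw [hy']

/-- A real element of odd order lifts along a kernel of `2`-power order. -/
theorem real_lift_two [Finite G] {G' : Type*} [Group G'] (f : G →* G') (hf : Function.Surjective f)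
    (hk : IsPGroup 2 f.ker) {x : G'} (hx : IsReal x) (ho : Odd (orderOf x)) :
    ∃ y, f y = x ∧ IsReal y := by
  haveI : Fact (Nat.Prime 2) := ⟨Nat.prime_two⟩
  obtain ⟨g', hg'⟩ := hx
  obtain ⟨g, rfl⟩ := hf g'
  obtain ⟨y₀, rfl⟩ := hf x
  obtain ⟨k, hk'⟩ := IsPGroup.iff_card.mp hk
  obtain ⟨i, hi⟩ := exists_pow_eq_self_of_coprime (x := f y₀) (n := 2 ^ k)
    ((Nat.coprime_two_left.mpr ho).pow_left k)
  set y := y₀ ^ (2 ^ k * i) with hy
  have hfy : f y = f y₀ := by rw [hy, map_pow, pow_mul, hi]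
  have hoy : Odd (orderOf y) := by
    refine ho.of_dvd_nat (orderOf_dvd_of_pow_eq_one ?_)
    have h1 : y₀ ^ orderOf (f y₀) ∈ f.ker := by
      rw [MonoidHom.mem_ker, map_pow, pow_orderOf_eq_one]
    have h2 : (⟨_, h1⟩ : f.ker) ^ 2 ^ k = 1 := by rw [← hk', pow_card_eq_one']
    have h2' : (y₀ ^ orderOf (f y₀)) ^ 2 ^ k = 1 := congrArg Subtype.val h2
    rw [hy, ← pow_mul, show 2 ^ k * i * orderOf (f y₀) = orderOf (f y₀) * 2 ^ k * i by ring,
      pow_mul, pow_mul, h2', one_pow]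
  have hcop : ∀ z : G, Odd (orderOf z) → (Nat.card f.ker).Coprime (Nat.card (Subgroup.zpowers z)) :=
    fun z hz => by rw [hk', Nat.card_zpowers]; exact (Nat.coprime_two_left.mpr hz).pow_left k
  set z := g * y⁻¹ * g⁻¹ with hz
  have hoz : orderOf z = orderOf y := by
    rw [hz, ← orderOf_inv y]
    exact orderOf_injective (MulAut.conj g).toMonoidHom (MulAut.conj g).injective y⁻¹
  have hfz : f z = f y := by
    rw [hz, map_mul, map_mul, map_inv, map_inv, hfy, ← conj_inv, hg', inv_inv]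
  have hsup : f.ker ⊔ Subgroup.zpowers y = f.ker ⊔ Subgroup.zpowers z := by
    have h1 : y * z⁻¹ ∈ f.ker := by rw [MonoidHom.mem_ker, map_mul, map_inv, hfz, mul_inv_cancel]
    refine le_antisymm (sup_le le_sup_left (Subgroup.zpowers_le.mpr ?_))
      (sup_le le_sup_left (Subgroup.zpowers_le.mpr ?_))
    · rw [show y = (y * z⁻¹) * z by group]
      exact mul_mem (Subgroup.mem_sup_left h1) (Subgroup.mem_sup_right (Subgroup.mem_zpowers z))
    · rw [show z = (y * z⁻¹)⁻¹ * y by group]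
      exact mul_mem (Subgroup.mem_sup_left (inv_mem h1))
        (Subgroup.mem_sup_right (Subgroup.mem_zpowers y))
  haveI : Group.IsNilpotent f.ker := hk.isNilpotent
  obtain ⟨n, hn, hne⟩ := Coprime.exists_conj_of_coprime
    (Subgroup.le_normalizer_of_normal (H := f.ker) (K := Subgroup.zpowers y)) (hcop y hoy)
    (hcop z (hoz ▸ hoy)) hsup (Or.inl inferInstance)
  have hmem : n⁻¹ * z * n ∈ Subgroup.zpowers y :=
    Coprime.mem_conj_smul_iff.mp (hne ▸ Subgroup.mem_zpowers z)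
  have hd : (n⁻¹ * z * n) * y⁻¹ ∈ f.ker ⊓ Subgroup.zpowers y :=
    Subgroup.mem_inf.mpr ⟨by
      rw [MonoidHom.mem_ker, map_mul, map_mul, map_mul, map_inv, map_inv, MonoidHom.mem_ker.mp hn,
        hfz, inv_one, one_mul, mul_one, mul_inv_cancel],
      mul_mem hmem (inv_mem (Subgroup.mem_zpowers y))⟩
  rw [Coprime.inf_eq_bot_of_coprime_card (hcop y hoy), Subgroup.mem_bot] at hd
  refine ⟨y, hfy, n⁻¹ * g, ?_⟩
  have hd' : n⁻¹ * z * n = y := mul_inv_eq_one.mp hd
  calc n⁻¹ * g * y * (n⁻¹ * g)⁻¹ = (n⁻¹ * z * n)⁻¹ := by rw [hz]; group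
    _ = y⁻¹ := by rw [hd']

end CfsgLib.RealClassGraph
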