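import Mathlib

/-!
The conjugation module of a normal elementary abelian `2`-subgroup modulo central elements.
-/

set_option autoImplicit false
set_option linter.style.haveILetI false

namespace CfsgLib.RealClassGraph

universe u

variable {G : Type u} [Group G] [Finite G]

theorem exists_conj_module (A : Subgroup G) [A.Normal] (hA2 : ∀ a ∈ A, a * a = 1)
    (hA : ∀ a ∈ A, ∀ b ∈ A, a * b = b * a) :
    ∃ (V : Type u) (_ : AddCommGroup V) (_ : Module (ZMod 2) V) (_ : Finite V)
      (ρ : G →* Module.End (ZMod 2) V) (mk : A → V), Function.Surjective mk ∧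
      (∀ a : A, mk a = 0 ↔ (a : G) ∈ Subgroup.center G) ∧
      (∀ a b : A, mk a = mk b ↔ (a : G)⁻¹ * b ∈ Subgroup.center G) ∧
      ∀ (g : G) (a : A), ρ g (mk a) = mk ⟨g * a * g⁻¹, Subgroup.Normal.conj_mem inferInstance _ a.2 g⟩ := by
  letI : CommGroup A :=
    { (inferInstance : Group A) with mul_comm := fun a b => Subtype.ext (hA a a.2 b b.2) }
  let Z : Subgroup A := (Subgroup.center G).subgroupOf A
  let V := Additive (A ⧸ Z)
  letI : Module (ZMod 2) V := AddCommGroup.zmodModule (n := 2) fun x => by
    induction x using Additive.rec with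
    | _ q =>
      induction q using QuotientGroup.induction_on with
      | _ a =>
        show Additive.ofMul (((a : A) : A ⧸ Z) ^ 2) = Additive.ofMul (1 : A ⧸ Z)
        rw [← QuotientGroup.mk_pow, pow_two, show a * a = 1 from Subtype.ext (hA2 a a.2),
          QuotientGroup.mk_one]
  have hZ : ∀ g : G, Z ≤ Z.comap (MulAut.conjNormal g : MulAut A).toMonoidHom := by
    intro g a ha
    show ((MulAut.conjNormal g a : A) : G) ∈ Subgroup.center G
    have hc : g * (a : G) * g⁻¹ = (a : G) := mul_inv_eq_iff_eq_mul.mpr
      (Subgroup.mem_center_iff.mp (ha : (a : G) ∈ Subgroup.center G) g)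
    rw [MulAut.conjNormal_apply, hc]
    exact ha
  let φ : G → (A ⧸ Z →* A ⧸ Z) := fun g =>
    QuotientGroup.map Z Z (MulAut.conjNormal g : MulAut A).toMonoidHom (hZ g)
  have hφ : ∀ (g : G) (a : A), φ g (a : A ⧸ Z) = ((MulAut.conjNormal g a : A) : A ⧸ Z) :=
    fun g a => rfl
  let ρ : G →* Module.End (ZMod 2) V :=
    { toFun := fun g => (MonoidHom.toAdditive (φ g)).toZModLinearMap 2
      map_one' := LinearMap.ext fun x => by
        induction x using Additive.rec with
        | _ q =>
          induction q using QuotientGroup.induction_on with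
          | _ a =>
            show Additive.ofMul (φ 1 (a : A ⧸ Z)) = Additive.ofMul (a : A ⧸ Z)
            rw [hφ, map_one, MulAut.one_apply]
      map_mul' := fun g g' => LinearMap.ext fun x => by
        induction x using Additive.rec with
        | _ q =>
          induction q using QuotientGroup.induction_on with
          | _ a =>
            show Additive.ofMul (φ (g * g') (a : A ⧸ Z)) = Additive.ofMul (φ g (φ g' (a : A ⧸ Z)))
            rw [hφ, hφ, hφ, map_mul, MulAut.mul_apply] }
  refine ⟨V, inferInstance, inferInstance, inferInstanceAs (Finite (A ⧸ Z)), ρ,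
    fun a => Additive.ofMul (a : A ⧸ Z), fun x => ?_, fun a => ?_, fun a b => ?_, fun g a => ?_⟩
  · induction x using Additive.rec with
    | _ q =>
      induction q using QuotientGroup.induction_on with
      | _ a => exact ⟨a, rfl⟩
  · exact (QuotientGroup.eq_one_iff (N := Z) a).trans Subgroup.mem_subgroupOf
  · refine (Additive.ofMul.injective.eq_iff).trans (QuotientGroup.eq.trans ?_)
    exact Subgroup.mem_subgroupOf
  · show Additive.ofMul (φ g (a : A ⧸ Z)) = _
    rw [hφ]
    congr 2

end CfsgLib.RealClassGraph

namespace CfsgLib.RealClassGraph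

/-- The faithful representation of the quotient by the kernel, for a monoid-valued homomorphism. -/
theorem exists_faithful {G : Type*} [Group G] {M : Type*} [Monoid M] (φ : G →* M) :
    ∃ ρ : G ⧸ φ.ker →* M, Function.Injective ρ ∧
      ∀ g : G, ρ (QuotientGroup.mk' φ.ker g) = φ g := by
  refine ⟨QuotientGroup.lift φ.ker φ le_rfl, fun a b hab => ?_, fun g => rfl⟩
  induction a using QuotientGroup.induction_on with
  | _ a =>
    induction b using QuotientGroup.induction_on with
    | _ b =>
      have hab' : φ a = φ b := hab
      refine QuotientGroup.eq.mpr (MonoidHom.mem_ker.mpr ?_)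
      rw [map_mul, ← hab', ← map_mul, inv_mul_cancel, map_one]

end CfsgLib.RealClassGraph
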