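import Mathlib

/-!
A permutation group with a regular cyclic subgroup whose order has two different prime divisors and
with maximal point stabilizer is doubly transitive (Burnside, Schur).
-/

set_option autoImplicit false
set_option linter.style.haveILetI false

namespace CfsgLib.RealClassGraph.Schur

variable {Γ W Ω : Type*} [CommGroup Γ] [Group W] [MulAction W Ω] (e : Γ ≃ Ω)

/-- The action carried over to `Γ`. -/
def act (w : W) (α : Γ) : Γ := e.symm (w • e α)

theorem act_mul (w w' : W) (α : Γ) : act e (w * w') α = act e w (act e w' α) := by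
  simp [act, mul_smul]

theorem act_one (α : Γ) : act e (1 : W) α = α := by simp [act]

theorem act_inv_act (w : W) (α : Γ) : act e w⁻¹ (act e w α) = α := by
  rw [← act_mul, inv_mul_cancel, act_one]

theorem act_act_inv (w : W) (α : Γ) : act e w (act e w⁻¹ α) = α := by
  rw [← act_mul, mul_inv_cancel, act_one]

theorem act_fix {h : W} (hh : h ∈ MulAction.stabilizer W (e 1)) : act e h 1 = 1 := by
  rw [act, MulAction.mem_stabilizer_iff.mp hh, Equiv.symm_apply_apply]

theorem mem_stab_iff {h : W} : h ∈ MulAction.stabilizer W (e 1) ↔ act e h 1 = 1 := by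
  rw [MulAction.mem_stabilizer_iff, act, Equiv.symm_apply_eq]

/-- Invariance of a set under the stabilizer. -/
def Inv (T : Set Γ) : Prop :=
  ∀ h ∈ MulAction.stabilizer W (e 1), ∀ α ∈ T, act e h α ∈ T

variable {e}
variable (htr : ∀ γ : Γ, ∃ c : W, ∀ α, act e c α = γ * α)
include htr

theorem rel_of_inv {T : Set Γ} (hT : Inv (W := W) e T) (w : W) {α β : Γ} (h : α⁻¹ * β ∈ T) :
    (act e w α)⁻¹ * act e w β ∈ T := by
  obtain ⟨c, hc⟩ := htr α
  obtain ⟨d, hd⟩ := htr (act e w α)⁻¹
  have h1 : d * w * c ∈ MulAction.stabilizer W (e 1) := by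
    rw [mem_stab_iff, act_mul, act_mul, hc, mul_one, hd, inv_mul_cancel]
  have h2 := hT _ h1 _ h
  rwa [act_mul, act_mul, hc, mul_inv_cancel_left, hd] at h2

theorem rel_iff {T : Set Γ} (hT : Inv (W := W) e T) (w : W) (α β : Γ) :
    (act e w α)⁻¹ * act e w β ∈ T ↔ α⁻¹ * β ∈ T := by
  refine ⟨fun h => ?_, rel_of_inv htr hT w⟩
  have := rel_of_inv htr hT w⁻¹ h
  rwa [act_inv_act, act_inv_act] at this

variable (hmax : ∀ M : Subgroup W, MulAction.stabilizer W (e 1) ≤ M →
  M = MulAction.stabilizer W (e 1) ∨ M = ⊤)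
include hmax

/-- A proper block subgroup is trivial. -/
theorem block_trivial {L : Subgroup Γ} (hL : L ≠ ⊤)
    (inv : ∀ w : W, ∀ α : Γ, ∀ l ∈ L, (act e w α)⁻¹ * act e w (α * l) ∈ L) : L = ⊥ := by
  let M : Subgroup W :=
    { carrier := {w | act e w 1 ∈ L}
      one_mem' := by show act e 1 1 ∈ L; rw [act_one]; exact one_mem L
      mul_mem' := by
        intro a b ha hb
        show act e (a * b) 1 ∈ L
        rw [act_mul]
        have := inv a 1 _ hb
        rw [one_mul] at this
        simpa using mul_mem ha this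
      inv_mem' := by
        intro a ha
        show act e a⁻¹ 1 ∈ L
        have := inv a⁻¹ 1 _ ha
        rw [one_mul, act_inv_act, mul_one] at this
        exact inv_mem_iff.mp this }
  have hle : MulAction.stabilizer W (e 1) ≤ M := fun h hh => by
    show act e h 1 ∈ L
    rw [act_fix e hh]; exact one_mem L
  rcases hmax M hle with hM | hM
  · refine (Subgroup.eq_bot_iff_forall L).mpr fun l hl => ?_
    obtain ⟨c, hc⟩ := htr l
    have : c ∈ M := by show act e c 1 ∈ L; rw [hc, mul_one]; exact hl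
    rw [hM, mem_stab_iff, hc, mul_one] at this
    exact this
  · exfalso
    apply hL
    refine eq_top_iff.mpr fun γ _ => ?_
    obtain ⟨c, hc⟩ := htr γ
    have h1 : c ∈ M := hM ▸ Subgroup.mem_top c
    have h2 : act e c 1 ∈ L := h1
    rwa [hc, mul_one] at h2

/-- An invariant set generating a proper subgroup is empty or trivial. -/
theorem subset_one {Y : Set Γ} (hY : Inv (W := W) e Y) (hL : Subgroup.closure Y ≠ ⊤) :
    ∀ y ∈ Y, y = 1 := by
  have h := block_trivial htr hmax hL fun w α l hl => by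
    induction hl using Subgroup.closure_induction generalizing α with
    | mem a ha =>
      exact Subgroup.subset_closure (rel_of_inv htr hY w (by rwa [inv_mul_cancel_left]))
    | one => rw [mul_one, inv_mul_cancel]; exact one_mem _
    | mul a b _ _ iha ihb =>
      have := mul_mem (iha α) (ihb (α * a))
      rwa [mul_assoc, mul_inv_cancel_left, mul_assoc] at this
    | inv a _ iha =>
      have := inv_mem (iha (α * a⁻¹))
      rwa [inv_mul_cancel_right, mul_inv_rev, inv_inv] at this
  intro y hy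
  exact Subgroup.mem_bot.mp (h ▸ Subgroup.subset_closure hy)

variable [Finite Γ]

omit hmax in
/-- The number of representations as products of `k` elements of an invariant set is invariant. -/
theorem coeff_invariant {R : Type*} [CommSemiring R] {T : Finset Γ}
    (hT : Inv (W := W) e (T : Set Γ)) (k : ℕ) {h : W} (hh : h ∈ MulAction.stabilizer W (e 1))
    (y : Γ) :
    ((∑ t ∈ T, MonoidAlgebra.single t (1 : R)) ^ k).coeff (act e h y) =
      ((∑ t ∈ T, MonoidAlgebra.single t (1 : R)) ^ k).coeff y := by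
  classical
  haveI := Fintype.ofFinite Γ
  induction k generalizing y with
  | zero =>
    rw [pow_zero, MonoidAlgebra.one_def, MonoidAlgebra.coeff_single, Finsupp.single_apply,
      Finsupp.single_apply]
    have : act e h y = 1 ↔ y = 1 := by
      refine ⟨fun hy => ?_, fun hy => hy ▸ act_fix e hh⟩
      rw [← act_inv_act e h y, hy, act_fix e (inv_mem hh)]
    simp only [eq_comm (a := (1 : Γ)), this]
  | succ k ih =>
    set F := (∑ t ∈ T, MonoidAlgebra.single t (1 : R)) ^ k with hF
    have hstep : ∀ x : Γ, (F * ∑ t ∈ T, MonoidAlgebra.single t (1 : R)).coeff x =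
        ∑ z : Γ, if z⁻¹ * x ∈ T then F.coeff z else 0 := by
      intro x
      rw [Finset.mul_sum, MonoidAlgebra.coeff_sum, Finset.sum_apply',
        ← Equiv.sum_comp ((Equiv.inv Γ).trans (Equiv.mulRight x)), ← Finset.sum_filter]
      refine Finset.sum_congr ?_ fun t _ => ?_
      · ext t
        simp
      · simp [mul_comm]
    rw [pow_succ, ← hF, hstep, hstep]
    let σ : Equiv.Perm Γ :=
      { toFun := act e h, invFun := act e h⁻¹, left_inv := act_inv_act e h,
        right_inv := act_act_inv e h }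
    rw [← Equiv.sum_comp σ]
    refine Finset.sum_congr rfl fun z _ => ?_
    show (if (act e h z)⁻¹ * act e h y ∈ T then F.coeff (act e h z) else 0) = _
    rw [ih]
    exact if_congr (rel_iff htr hT h z y) rfl rfl

variable [IsCyclic Γ]

/-- An invariant set is periodic outside the `p`-torsion. -/
theorem periodic {p : ℕ} [hp : Fact p.Prime] (hpd : p ∣ Nat.card Γ) {T : Finset Γ}
    (hT : Inv (W := W) e (T : Set Γ)) {t : Γ} (ht : t ∈ T) (htp : t ^ p ≠ 1) {u : Γ}
    (hu : u ^ p = 1) : t * u ∈ T := by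
  classical
  haveI := Fintype.ofFinite Γ
  haveI : CharP (MonoidAlgebra (ZMod p) Γ) p :=
    charP_of_injective_ringHom (f := MonoidAlgebra.singleOneRingHom)
      (fun a b hab => by simpa using hab) p
  have key : ∀ y : Γ, ((∑ s ∈ T, MonoidAlgebra.single s (1 : ZMod p)) ^ p).coeff y =
      ((T.filter fun s => s ^ p = y).card : ZMod p) := by
    intro y
    rw [sum_pow_char, MonoidAlgebra.coeff_sum, Finset.sum_apply', Finset.card_filter, Nat.cast_sum]
    refine Finset.sum_congr rfl fun s _ => ?_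
    simp [MonoidAlgebra.single_pow, Finsupp.single_apply]
  set Y : Set Γ := {y | y ≠ 1 ∧ ((T.filter fun s => s ^ p = y).card : ZMod p) ≠ 0} with hYdef
  have hY : Inv (W := W) e Y := by
    rintro h hh y ⟨hy1, hy⟩
    refine ⟨fun e1 => hy1 ?_, ?_⟩
    · rw [← act_inv_act e h y, e1, act_fix e (inv_mem hh)]
    · rwa [← key, coeff_invariant htr hT p hh, key]
  have hrange : Subgroup.closure Y ≤ (powMonoidHom p : Γ →* Γ).range := by
    rw [Subgroup.closure_le]
    rintro y ⟨-, hy⟩
    obtain ⟨s, hs⟩ := Finset.nonempty_of_ne_empty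
      (fun h0 : (T.filter fun s => s ^ p = y) = ∅ => hy (by rw [h0]; simp))
    exact ⟨s, (Finset.mem_filter.mp hs).2⟩
  obtain ⟨z, hz⟩ := exists_prime_orderOf_dvd_card' p hpd
  have hne : Subgroup.closure Y ≠ ⊤ := by
    intro htop
    have hsurj : Function.Surjective (powMonoidHom p : Γ →* Γ) :=
      MonoidHom.range_eq_top.mp (top_le_iff.mp (htop ▸ hrange))
    have hinj := Finite.injective_iff_surjective.mpr hsurj
    have : z = 1 := hinj (by simp [← hz, pow_orderOf_eq_one])
    rw [this, orderOf_one] at hz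
    exact hp.out.one_lt.ne hz
  have h0 : ((T.filter fun s => s ^ p = t ^ p).card : ZMod p) = 0 := by
    by_contra hc
    exact htp (subset_one htr hmax hY hne _ ⟨htp, hc⟩)
  rw [ZMod.natCast_eq_zero_iff] at h0
  set K := ({a | a ^ p = 1} : Finset Γ) with hK
  have hsub : (T.filter fun s => s ^ p = t ^ p) ⊆ K.image (t * ·) := by
    intro s hs
    rw [Finset.mem_image]
    refine ⟨t⁻¹ * s, ?_, mul_inv_cancel_left t s⟩
    simp [hK, mul_pow, (Finset.mem_filter.mp hs).2]
  have hle : (K.image (t * ·)).card ≤ p :=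
    Finset.card_image_le.trans (IsCyclic.card_pow_eq_one_le hp.out.pos)
  have hpos : 0 < (T.filter fun s => s ^ p = t ^ p).card :=
    Finset.card_pos.mpr ⟨t, by simp [ht]⟩
  have heq := Finset.eq_of_subset_of_card_le hsub (hle.trans (Nat.le_of_dvd hpos h0))
  have : t * u ∈ T.filter fun s => s ^ p = t ^ p := by
    rw [heq, Finset.mem_image]
    exact ⟨u, by simp [hK, hu], rfl⟩
  exact (Finset.mem_filter.mp this).1

/-- An invariant set avoiding `1` meets the non-trivial `p`-torsion. -/
theorem exists_torsion {p : ℕ} [hp : Fact p.Prime] (hpd : p ∣ Nat.card Γ) {T : Finset Γ}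
    (hT : Inv (W := W) e (T : Set Γ)) (h1 : (1 : Γ) ∉ T) (hne : T.Nonempty) :
    ∃ t ∈ T, t ^ p = 1 := by
  by_contra hc
  push Not at hc
  let L : Subgroup Γ :=
    { carrier := {c | ∀ z, c⁻¹ * z ∈ T ↔ z ∈ T}
      one_mem' := fun z => by rw [inv_one, one_mul]
      mul_mem' := by
        intro a b ha hb z
        rw [mul_inv_rev, mul_assoc]
        exact (hb _).trans (ha z)
      inv_mem' := by
        intro a ha z
        have := (ha (a * z)).symm
        rw [inv_mul_cancel_left] at this
        rw [inv_inv]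
        exact this }
  obtain ⟨t, ht⟩ := hne
  have hL : L ≠ ⊤ := by
    intro htop
    have h2 : t ∈ L := htop ▸ Subgroup.mem_top t
    exact h1 ((h2 t).mpr ht |> fun h => by simpa using h)
  have hbot := block_trivial htr hmax hL fun w α l hl z => by
    obtain ⟨ζ, hζ⟩ : ∃ ζ, act e w ζ = act e w α * z := ⟨act e w⁻¹ _, act_act_inv e w _⟩
    have e1 : z = (act e w α)⁻¹ * act e w ζ := by rw [hζ, inv_mul_cancel_left]
    have e2 : ((act e w α)⁻¹ * act e w (α * l))⁻¹ * z = (act e w (α * l))⁻¹ * act e w ζ := by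
      rw [hζ, mul_inv_rev, inv_inv, mul_assoc]
    rw [e2, e1]
    show (act e w (α * l))⁻¹ * act e w ζ ∈ (T : Set Γ) ↔ (act e w α)⁻¹ * act e w ζ ∈ (T : Set Γ)
    rw [rel_iff htr hT, rel_iff htr hT, mul_inv_rev, mul_assoc]
    exact hl (α⁻¹ * ζ)
  obtain ⟨z, hz⟩ := exists_prime_orderOf_dvd_card' p hpd
  have hzp : z ^ p = 1 := by rw [← hz]; exact pow_orderOf_eq_one z
  have hzL : z ∈ L := by
    intro s
    have hzi : (z⁻¹) ^ p = 1 := by rw [inv_pow, hzp, inv_one]
    constructor
    · intro hs
      have := periodic htr hmax hpd hT hs (hc _ hs) hzp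
      rwa [mul_comm, mul_inv_cancel_left] at this
    · intro hs
      rw [mul_comm]
      exact periodic htr hmax hpd hT hs (hc _ hs) hzi
  rw [hbot, Subgroup.mem_bot] at hzL
  rw [hzL, orderOf_one] at hz
  exact hp.out.one_lt.ne hz

/-- The stabilizer is transitive on the other points. -/
theorem two_transitive {p p' : ℕ} (hp : p.Prime) (hp' : p'.Prime) (hne : p ≠ p')
    (hpd : p ∣ Nat.card Γ) (hpd' : p' ∣ Nat.card Γ) {x y : Ω} (hx : x ≠ e 1) (hy : y ≠ e 1) :
    ∃ h ∈ MulAction.stabilizer W (e 1), h • x = y := by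
  classical
  haveI := Fintype.ofFinite Γ
  haveI := Fact.mk hp
  haveI := Fact.mk hp'
  obtain ⟨u, hu⟩ := exists_prime_orderOf_dvd_card' p hpd
  have hup : u ^ p = 1 := by rw [← hu]; exact pow_orderOf_eq_one u
  have hu1 : u ≠ 1 := fun h => by rw [h, orderOf_one] at hu; exact hp.one_lt.ne hu
  have hcop : ∀ v : Γ, v ^ p = 1 → v ^ p' = 1 → v = 1 := fun v hv hv' =>
    orderOf_eq_one_iff.mp (Nat.eq_one_of_dvd_coprimes ((Nat.coprime_primes hp hp').mpr hne)
      (orderOf_dvd_of_pow_eq_one hv) (orderOf_dvd_of_pow_eq_one hv'))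
  have main : ∀ x : Ω, x ≠ e 1 → ∃ h ∈ MulAction.stabilizer W (e 1), h • x = e u := by
    intro x hx
    let T : Finset Γ := Finset.univ.filter fun α =>
      ∃ h ∈ MulAction.stabilizer W (e 1), act e h (e.symm x) = α
    have hT : Inv (W := W) e (T : Set Γ) := by
      intro h hh α hα
      obtain ⟨k, hk, rfl⟩ := (Finset.mem_filter.mp hα).2
      exact Finset.mem_filter.mpr ⟨Finset.mem_univ _, h * k, mul_mem hh hk, act_mul e h k _⟩
    have h1 : (1 : Γ) ∉ T := by
      intro h1
      obtain ⟨k, hk, hk1⟩ := (Finset.mem_filter.mp h1).2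
      apply hx
      rw [← e.apply_symm_apply x, ← act_inv_act e k (e.symm x), hk1, act_fix e (inv_mem hk)]
    have hneT : T.Nonempty := ⟨e.symm x, Finset.mem_filter.mpr ⟨Finset.mem_univ _, 1, one_mem _, act_one e _⟩⟩
    obtain ⟨w', hw', hw'p⟩ := exists_torsion htr hmax hpd' hT h1 hneT
    have hw'1 : w' ≠ 1 := fun h => h1 (h ▸ hw')
    have hw'p' : w' ^ p ≠ 1 := fun h => hw'1 (hcop _ h hw'p)
    have h2 := periodic htr hmax hpd hT hw' hw'p' hup
    have h3 : (w' * u) ^ p' ≠ 1 := by
      rw [mul_pow, hw'p, one_mul]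
      exact fun h => hu1 (hcop _ hup h)
    have h4 := periodic htr hmax hpd' hT h2 h3 (u := w'⁻¹) (by rw [inv_pow, hw'p, inv_one])
    rw [mul_comm w' u, mul_inv_cancel_right] at h4
    obtain ⟨k, hk, hku⟩ := (Finset.mem_filter.mp h4).2
    exact ⟨k, hk, by rw [← hku, act, Equiv.apply_symm_apply, Equiv.apply_symm_apply]⟩
  obtain ⟨h, hh, hhx⟩ := main x hx
  obtain ⟨k, hk, hky⟩ := main y hy
  exact ⟨k⁻¹ * h, mul_mem (inv_mem hk) hh, by rw [mul_smul, hhx, ← hky, inv_smul_smul]⟩

end CfsgLib.RealClassGraph.Schur
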