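import Cfsg.Agent.Lib.RealClassGraph.Radical
import Cfsg.Agent.Lib.RealClassGraph.Schur

/-!
The stabilizer of a fixed space is doubly transitive, and a count of vectors gives the contradiction.
-/

set_option autoImplicit false
set_option linter.style.haveILetI false

namespace CfsgLib.RealClassGraph

open CfsgLib.CentMaxNormal

universe u v

theorem count_arith {a A m n i j : ℕ} (hA : 2 * A = a) (hmA : m < A) (hm : 0 < m) (hi : i ≤ m)
    (hj : 0 < j) (hn : n * (2 ^ m - 1) = 2 ^ a - 1)
    (hW : 2 ^ (m + j) - 1 = (2 ^ m - 1) + (n - 1) * (2 ^ i - 1)) : m + j = a := by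
  have hn0 : 1 ≤ n := by
    rcases Nat.eq_zero_or_pos n with h | h
    · rw [h, Nat.zero_mul] at hn
      have := Nat.one_lt_two_pow (n := a) (by omega)
      omega
    · exact h
  rcases hi.eq_or_lt with rfl | hlt
  · have h : 2 ^ (i + j) - 1 = 2 ^ a - 1 := by
      rw [hW, ← hn, Nat.sub_mul, one_mul]
      have : 2 ^ i - 1 ≤ n * (2 ^ i - 1) := Nat.le_mul_of_pos_left _ hn0
      omega
    have h1 := Nat.one_le_two_pow (n := a)
    have h2 := Nat.one_le_two_pow (n := i + j)
    exact Nat.pow_right_injective (le_refl 2) (show 2 ^ (i + j) = 2 ^ a by omega)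
  · exfalso
    obtain ⟨B, rfl⟩ : ∃ B, a = m + B := ⟨a - m, by omega⟩
    have hB : m < B := by omega
    have key : ((2 : ℤ) ^ j - 1) * (2 ^ m - 1) = (2 ^ i - 1) * (2 ^ B - 1) := by
      have e1 : ((2 : ℤ) ^ (m + j) - 1) = (2 ^ m - 1) + ((n : ℤ) - 1) * (2 ^ i - 1) := by
        have := congrArg (fun x : ℕ => (x : ℤ)) hW
        simpa [Nat.cast_sub Nat.one_le_two_pow, Nat.cast_sub hn0] using this
      have e2 : (n : ℤ) * (2 ^ m - 1) = 2 ^ (m + B) - 1 := by
        have := congrArg (fun x : ℕ => (x : ℤ)) hn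
        simpa [Nat.cast_sub Nat.one_le_two_pow] using this
      refine mul_left_cancel₀ (show (2 : ℤ) ^ m ≠ 0 by positivity) ?_
      rw [pow_add] at e1 e2
      linear_combination ((2 : ℤ) ^ m - 1) * e1 + ((2 : ℤ) ^ i - 1) * e2
    have hdiv : (2 : ℤ) ^ (i + 1) ∣ 2 ^ i - 2 ^ j := by
      have : (2 : ℤ) ^ i - 2 ^ j = (2 ^ i - 1) * 2 ^ B + (2 ^ m - 2 ^ (j + m)) := by
        rw [pow_add]; linear_combination key
      rw [this]
      refine dvd_add (Dvd.dvd.mul_left (pow_dvd_pow 2 (by omega)) _)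
        (dvd_sub (pow_dvd_pow 2 (by omega)) (pow_dvd_pow 2 (by omega)))
    have hij : j = i := by
      rcases lt_trichotomy j i with h | h | h
      · have h1 : (2 : ℤ) ^ (j + 1) ∣ 2 ^ j := by
          have h2 : (2 : ℤ) ^ (j + 1) ∣ 2 ^ i - 2 ^ j := (pow_dvd_pow 2 (by omega)).trans hdiv
          have h3 : (2 : ℤ) ^ (j + 1) ∣ 2 ^ i := pow_dvd_pow 2 (by omega)
          simpa using dvd_sub h3 h2
        have := Int.le_of_dvd (by positivity) h1
        rw [pow_succ] at this
        linarith [pow_pos (show (0 : ℤ) < 2 by norm_num) j]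
      · exact h
      · have h1 : (2 : ℤ) ^ (i + 1) ∣ 2 ^ i := by
          have h2 : (2 : ℤ) ^ (i + 1) ∣ 2 ^ j := pow_dvd_pow 2 (by omega)
          simpa using dvd_add hdiv h2
        have := Int.le_of_dvd (by positivity) h1
        rw [pow_succ] at this
        linarith [pow_pos (show (0 : ℤ) < 2 by norm_num) i]
    subst hij
    have h2 : (1 : ℤ) < 2 ^ j := by
      exact_mod_cast Nat.one_lt_two_pow (n := j) (by omega)
    have h3 : (2 : ℤ) ^ m < 2 ^ B := pow_lt_pow_right₀ (by norm_num) hB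
    nlinarith

variable {W : Type u} [Group W] [Finite W] {V : Type v} [AddCommGroup V] [Module (ZMod 2) V]
  [Finite V] [Nontrivial V] {r : ℕ} {ρ : W →* Module.End (ZMod 2) V}

namespace Counter

variable (D₀ : Counter r ρ)
include D₀

theorem maximal (S : Sylow 2 W) (M : Subgroup W)
    (hM : Subgroup.normalizer ((S : Subgroup W) : Set W) ≤ M) :
    M = Subgroup.normalizer ((S : Subgroup W) : Set W) ∨ M = ⊤ := by
  haveI : Fact (Nat.Prime 2) := ⟨Nat.prime_two⟩
  have hSM : (S : Subgroup W) ≤ M := Subgroup.le_normalizer.trans hM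
  by_cases hall : ∀ x : M, IsReal x → Odd (orderOf x) → x = 1
  · refine Or.inl (le_antisymm ?_ hM)
    have h := normal_sylow_two_of_forall hall (S.subtype hSM)
    rwa [Sylow.coe_subtype, Subgroup.normal_subgroupOf_iff_le_normalizer hSM] at h
  · push Not at hall
    obtain ⟨x, hxr, ho, hx1⟩ := hall
    have hxr' : IsReal (x : W) := hxr.map M.subtype
    have ho' : Odd (orderOf (x : W)) := (Subgroup.orderOf_coe x).symm ▸ ho
    have hx1' : (x : W) ≠ 1 := fun h => hx1 (Subtype.ext h)
    obtain ⟨v, hv0, hv⟩ : ∃ v : V, v ≠ 0 ∧ v ∈ fix ρ (S : Subgroup W) := by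
      have := D₀.finrank_fix_pos S
      rw [Module.finrank_pos_iff] at this
      obtain ⟨v, hv⟩ := exists_ne (0 : fix ρ (S : Subgroup W))
      exact ⟨v, fun h => hv (Subtype.ext h), v.2⟩
    have hconj := D₀.toRealFree.conj_mem hxr' ho' hx1' hv0 ((D₀.unique hv0 hv).trans hM) x.2
    set D := Subgroup.normalClosure ({(x : W)} : Set W) with hD
    have hDM : D ≤ M := by
      refine (Subgroup.closure_le _).mpr fun y hy => ?_
      obtain ⟨z, hz, hzy⟩ := Group.mem_conjugatesOfSet_iff.mp hy
      obtain ⟨w, rfl⟩ := isConj_iff.mp hzy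
      rw [Set.mem_singleton_iff.mp hz]
      exact hconj w
    haveI : D.Normal := Subgroup.normalClosure_normal
    have hns : ¬ Group.IsSolvable D := fun hs => by
      obtain ⟨g, hg⟩ := hxr'
      have := D₀.solvable_central D hs _ (Subgroup.subset_normalClosure rfl) g
      exact hx1' (eq_one_of_odd_of_eq_inv ho' (by rw [← hg, this, mul_inv_cancel_right]))
    obtain ⟨hodd, -⟩ := D₀.nonsolvable_normal D hns
    have hSD : (S : Subgroup W) ≤ D := fun s hs => by
      obtain ⟨k, hk⟩ := S.2 ⟨s, hs⟩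
      exact mem_of_odd_index hodd ⟨k, congrArg Subtype.val hk⟩
    refine Or.inr (eq_top_iff.mpr ?_)
    have h := Sylow.normalizer_sup_eq_top (S.subtype hSD)
    rw [Sylow.coe_subtype, Subgroup.map_subgroupOf_eq_of_le hSD] at h
    rw [← h]
    exact sup_le hM hDM

theorem no_counter (h6 : Module.finrank (ZMod 2) V ≠ 6)
    (hlt : ∀ S : Sylow 2 W,
      2 * Module.finrank (ZMod 2) (fix ρ (S : Subgroup W)) < Module.finrank (ZMod 2) V) : False := by
  classical
  haveI : Fact (Nat.Prime 2) := ⟨Nat.prime_two⟩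
  haveI := Fintype.ofFinite (Sylow 2 W)
  obtain ⟨S⟩ : Nonempty (Sylow 2 W) := inferInstance
  have hS1 : ∃ b ∈ (S : Subgroup W), b * b = 1 ∧ b ≠ 1 := by
    have h2 : 2 ∣ Nat.card W := by
      by_contra h
      exact D₀.notSolvable (solvable_of_odd (Nat.not_even_iff_odd.mp (fun e => h e.two_dvd)))
    have h' : 2 ^ 1 ∣ Nat.card (S : Subgroup W) := S.pow_dvd_card_of_pow_dvd_card (by rwa [pow_one])
    obtain ⟨b, hb⟩ := exists_prime_orderOf_dvd_card' 2 (pow_one 2 ▸ h')
    have hbW : orderOf (b : W) = 2 := (Subgroup.orderOf_coe b).trans hb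
    exact ⟨b, b.2, by have := pow_orderOf_eq_one (b : W); rwa [hbW, pow_two] at this,
      fun e => by rw [e, orderOf_one] at hbW; omega⟩
  obtain ⟨b, hbS, hb, hb1⟩ := hS1
  obtain ⟨hAa, hrange⟩ := D₀.toRealFree.fixEl_involution hb hb1
  set A := Module.finrank (ZMod 2) (fixEl ρ b) with hAdef
  set m := Module.finrank (ZMod 2) (fix ρ (S : Subgroup W)) with hmdef
  have hm : 0 < m := D₀.finrank_fix_pos S
  have hmA : m < A := by have := hlt S; omega
  have hn := D₀.card_sylow_mul S
  rw [← hmdef, ← hAa] at hn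
  have hk := D₀.toRealFree.card_containing hb S
  rw [← hmdef, ← hAdef] at hk
  set n := Nat.card (Sylow 2 W) with hndef
  set k := Nat.card {T : Sylow 2 W // b ∈ (T : Subgroup W)} with hkdef
  have hpm : 0 < 2 ^ m - 1 := by have := Nat.one_lt_two_pow (n := m) (by omega); omega
  have hpA : 2 ^ m < 2 ^ A := Nat.pow_lt_pow_right one_lt_two hmA
  have hnk : n = k * (2 ^ A + 1) := by
    refine Nat.eq_of_mul_eq_mul_right hpm (hn.trans ?_)
    rw [mul_right_comm, hk, mul_comm 2 A, pow_mul, pow_two, mul_comm (2 ^ A - 1)]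
    have := Nat.sq_sub_sq (2 ^ A) 1
    rw [one_pow, pow_two] at this
    rw [this, mul_comm]
  have hk1 : 1 < k := by
    by_contra h
    have : k * (2 ^ m - 1) ≤ 1 * (2 ^ m - 1) := Nat.mul_le_mul_right _ (by omega)
    omega
  obtain ⟨p, hp, hpd⟩ := Nat.exists_prime_and_dvd (show 2 ^ A + 1 ≠ 1 by
    have := Nat.two_pow_pos A; omega)
  obtain ⟨p', hp', hpd'⟩ := Nat.exists_prime_and_dvd (show k ≠ 1 by omega)
  have hne : p ≠ p' := by
    rintro rfl
    have h1 : p ∣ 2 ^ A - 1 := hk ▸ Dvd.dvd.mul_right hpd' _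
    have h2 : p ∣ 2 := by
      have h3 := Nat.dvd_sub hpd h1
      have := Nat.one_le_two_pow (n := A)
      rwa [show 2 ^ A + 1 - (2 ^ A - 1) = 2 by omega] at h3
    rw [(Nat.prime_dvd_prime_iff_eq hp Nat.prime_two).mp h2] at hpd
    have he : 2 ∣ 2 ^ A := dvd_pow_self 2 (by omega)
    omega
  -- the regular cyclic group
  obtain ⟨g, hg, -⟩ := D₀.exists_real_r
  letI : CommGroup (cen g) :=
    { (inferInstance : Group (cen g)) with
      mul_comm := fun a c => Subtype.ext
        (cen_comm D₀.primitive D₀.toTwoClosedStab hg a.2 c.2) }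
  haveI : IsCyclic (cen g) := (cen_cyclic D₀.primitive D₀.toTwoClosedStab hg).1
  let Γ := (cen g) ⧸ MulAction.stabilizer (cen g) S
  haveI : IsCyclic Γ := isCyclic_of_surjective (QuotientGroup.mk' (MulAction.stabilizer (cen g) S))
    (QuotientGroup.mk'_surjective _)
  obtain ⟨v, hv0, hv⟩ : ∃ v : V, v ≠ 0 ∧ v ∈ fix ρ (S : Subgroup W) := by
    have := D₀.finrank_fix_pos S
    rw [Module.finrank_pos_iff] at this
    obtain ⟨v, hv⟩ := exists_ne (0 : fix ρ (S : Subgroup W))
    exact ⟨v, fun h => hv (Subtype.ext h), v.2⟩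
  let e : Γ ≃ Sylow 2 W := Equiv.ofBijective (MulAction.ofQuotientStabilizer (cen g) S)
    ⟨MulAction.injective_ofQuotientStabilizer (cen g) S, fun T => by
      obtain ⟨w, hw⟩ := MulAction.exists_smul_eq W S T
      obtain ⟨c, τ, hc, hτ, rfl⟩ := D₀.factor_cen hg hv0 w
      refine ⟨QuotientGroup.mk ⟨c, hc⟩, ?_⟩
      show (⟨c, hc⟩ : cen g) • S = T
      rw [← hw, mul_smul, D₀.stab_smul hv0 hv hτ]
      rfl⟩
  have he1 : e 1 = S := by
    show ((1 : cen g) • S : Sylow 2 W) = S
    rw [one_smul]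
  have htr : ∀ γ : Γ, ∃ c : W, ∀ α, Schur.act e c α = γ * α := by
    intro γ
    induction γ using QuotientGroup.induction_on with
    | _ c =>
      refine ⟨(c : W), fun α => ?_⟩
      induction α using QuotientGroup.induction_on with
      | _ d =>
        show e.symm ((c : W) • e (d : Γ)) = ((c * d : cen g) : Γ)
        rw [Equiv.symm_apply_eq]
        show (c : W) • (d • S) = (c * d) • S
        rw [mul_smul]
        rfl
  have hmax : ∀ M : Subgroup W, MulAction.stabilizer W (e 1) ≤ M →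
      M = MulAction.stabilizer W (e 1) ∨ M = ⊤ := by
    intro M hM
    rw [he1, Sylow.stabilizer_eq_normalizer] at hM ⊢
    exact D₀.maximal S M hM
  have hcardΓ : Nat.card Γ = k * (2 ^ A + 1) := (Nat.card_congr e).trans hnk
  have h2t : ∀ T T' : Sylow 2 W, T ≠ S → T' ≠ S →
      ∃ h ∈ Subgroup.normalizer ((S : Subgroup W) : Set W), h • T = T' := by
    intro T T' hT hT'
    obtain ⟨h, hh, hTT⟩ := Schur.two_transitive htr hmax hp hp' hne
      (hcardΓ ▸ Dvd.dvd.mul_left hpd k) (hcardΓ ▸ Dvd.dvd.mul_right hpd' _)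
      (x := T) (y := T') (he1.symm ▸ hT) (he1.symm ▸ hT')
    refine ⟨h, ?_, hTT⟩
    rwa [he1, Sylow.stabilizer_eq_normalizer] at hh
  -- vectors fixed modulo the fixed space
  set U := fix ρ (S : Subgroup W) with hU
  let X : Submodule (ZMod 2) V :=
    { carrier := {x | ∀ s ∈ (S : Subgroup W), ρ s x + x ∈ U}
      add_mem' := fun {x y} hx hy s hs => by
        rw [map_add, show ρ s x + ρ s y + (x + y) = (ρ s x + x) + (ρ s y + y) by abel]
        exact U.add_mem (hx s hs) (hy s hs)
      zero_mem' := fun s _ => by rw [map_zero, add_zero]; exact U.zero_mem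
      smul_mem' := fun c x hx s hs => by
        rw [map_smul, ← smul_add]; exact U.smul_mem c (hx s hs) }
  have hUX : U ≤ X := fun x hx s hs => by
    rw [(mem_fix ρ).mp hx s hs, add_self_zero]; exact U.zero_mem
  have hXh : ∀ h ∈ Subgroup.normalizer ((S : Subgroup W) : Set W), ∀ x ∈ X, ρ h x ∈ X := by
    intro h hh x hx s hs
    have hs' : h⁻¹ * s * h ∈ (S : Subgroup W) :=
      (Subgroup.mem_normalizer_iff.mp (inv_mem hh) s).mp hs |> fun t => by
        simpa using t
    have h1 : ρ s (ρ h x) + ρ h x = ρ h (ρ (h⁻¹ * s * h) x + x) := by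
      rw [map_add, ← apply_mul, ← apply_mul, show h * (h⁻¹ * s * h) = s * h by group]
    rw [h1]
    have h2 := TwoClosedStab.mem_fix_smul (g := h) (S := S) (hx _ hs')
    rwa [Sylow.smul_eq_iff_mem_normalizer.mpr hh] at h2
  have hfinX : m < Module.finrank (ZMod 2) X := by
    rw [hmdef]
    refine Submodule.finrank_lt_finrank_of_lt (lt_of_le_of_ne hUX fun hUXe => ?_)
    have hlift : ∀ (s : (S : Subgroup W)), U ≤ U.comap (ρ (s : W)) := fun s x hx => by
      show ρ (s : W) x ∈ U
      rw [(mem_fix ρ).mp hx s s.2]; exact hx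
    letI : MulAction (S : Subgroup W) (V ⧸ U) :=
      { smul := fun s q => Submodule.mapQ U U (ρ (s : W)) (hlift s) q
        one_smul := fun q => by
          induction q using Submodule.Quotient.induction_on with
          | _ x => show Submodule.Quotient.mk (ρ 1 x) = _; rw [map_one]; rfl
        mul_smul := fun s t q => by
          induction q using Submodule.Quotient.induction_on with
          | _ x =>
            show Submodule.Quotient.mk (ρ ((s : W) * t) x) = _
            rw [apply_mul]; rfl }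
    have hdvd : 2 ∣ Nat.card (V ⧸ U) := by
      haveI : Finite (V ⧸ U) := Quotient.finite _
      rw [Module.natCard_eq_pow_finrank (K := ZMod 2), Nat.card_zmod]
      refine dvd_pow_self 2 fun h0 => ?_
      have := Submodule.finrank_quotient_add_finrank U
      omega
    have h0 : (0 : V ⧸ U) ∈ MulAction.fixedPoints (S : Subgroup W) (V ⧸ U) := fun s => by
      show Submodule.mapQ U U (ρ (s : W)) (hlift s) 0 = 0
      rw [map_zero]
    haveI : Finite (V ⧸ U) := Quotient.finite _
    obtain ⟨q, hq, hq0⟩ := S.2.exists_fixed_point_of_prime_dvd_card_of_fixed_point (V ⧸ U) hdvd h0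
    induction q using Submodule.Quotient.induction_on with
    | _ x =>
      apply hq0
      symm
      rw [Submodule.Quotient.mk_eq_zero, hUXe]
      intro s hs
      have h := hq ⟨s, hs⟩
      change Submodule.Quotient.mk (ρ s x) = Submodule.Quotient.mk x at h
      rw [Submodule.Quotient.eq, sub_eq_add_neg, ZModModule.neg_eq_self] at h
      exact h
  -- the other fixed spaces meet `X` equally
  obtain ⟨T₀, hT₀⟩ : ∃ T₀ : Sylow 2 W, T₀ ≠ S := by
    by_contra h
    push Not at h
    haveI : Subsingleton (Sylow 2 W) := ⟨fun a c => (h a).trans (h c).symm⟩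
    exact D₀.notSolvable (solvable_of_normal_sylow_two S (Sylow.normal_of_subsingleton S))
  set i := Module.finrank (ZMod 2) ↥(X ⊓ fix ρ (T₀ : Subgroup W)) with hidef
  have hcount := D₀.count X
  have hterm : ∀ T ∈ (Finset.univ : Finset (Sylow 2 W)).erase S,
      Nat.card ↥(X ⊓ fix ρ (T : Subgroup W)) - 1 = 2 ^ i - 1 := by
    intro T hT
    obtain ⟨h, hh, hhT⟩ := h2t T₀ T hT₀ (Finset.mem_erase.mp hT).1
    rw [hidef, ← natCard_submodule]
    refine congrArg (· - 1) (Nat.card_congr
      { toFun := fun x => ⟨ρ h⁻¹ x, hXh _ (inv_mem hh) _ x.2.1, ?_⟩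
        invFun := fun x => ⟨ρ h x, hXh _ hh _ x.2.1, ?_⟩
        left_inv := fun x => Subtype.ext (apply_apply_inv ρ h _)
        right_inv := fun x => Subtype.ext (apply_inv_apply ρ h _) })
    · have := TwoClosedStab.mem_fix_smul (g := h⁻¹) (x.2.2 : _ ∈ fix ρ (T : Subgroup W))
      have e : h⁻¹ • T = T₀ := by rw [← hhT, inv_smul_smul]
      rwa [e] at this
    · have := TwoClosedStab.mem_fix_smul (g := h) (x.2.2 : _ ∈ fix ρ (T₀ : Subgroup W))
      rwa [hhT] at this
  rw [← Finset.add_sum_erase _ _ (Finset.mem_univ S), inf_eq_right.mpr hUX,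
    Finset.sum_congr rfl hterm, Finset.sum_const, smul_eq_mul,
    Finset.card_erase_of_mem (Finset.mem_univ _), Finset.card_univ, ← Nat.card_eq_fintype_card,
    ← hndef, natCard_submodule, natCard_submodule, ← hmdef] at hcount
  obtain ⟨j, hj⟩ : ∃ j, Module.finrank (ZMod 2) X = m + j := ⟨_, (Nat.add_sub_cancel' hfinX.le).symm⟩
  rw [hj] at hcount
  have hle : i ≤ m := by
    have := Submodule.finrank_mono (inf_le_right : X ⊓ fix ρ (T₀ : Subgroup W) ≤ _)
    rw [TwoClosedStab.finrank_fix_eq T₀ S] at this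
    exact this
  have hfull := count_arith rfl hmA hm hle (by omega) hn hcount
  have hXtop : X = ⊤ := Submodule.eq_top_of_finrank_eq (by rw [hj, hfull, hAa])
  have hbU : fixEl ρ b ≤ U := by
    rw [← hrange]
    rintro _ ⟨x, rfl⟩
    have : x ∈ X := hXtop ▸ Submodule.mem_top
    exact this b hbS
  have := Submodule.finrank_mono hbU
  omega

end Counter

end CfsgLib.RealClassGraph
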