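import Cfsg.Agent.Lib.RealClassGraph.Orbit
import Cfsg.Agent.Lib.Fitting.Basic

/-!
Elements whose order is a primitive prime divisor of `2 ^ a - 1`, `a` the dimension of the module.
-/

set_option autoImplicit false
set_option linter.style.haveILetI false

namespace CfsgLib.RealClassGraph

open CfsgLib.CentMaxNormal

universe u v

variable {W : Type u} [Group W] {V : Type v} [AddCommGroup V] [Module (ZMod 2) V]

variable (V) in
/-- A primitive prime divisor of `|V| - 1`. -/
structure Primitive (r : ℕ) : Prop where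
  prime : r.Prime
  dvd : r ∣ 2 ^ Module.finrank (ZMod 2) V - 1
  min : ∀ i, 0 < i → i < Module.finrank (ZMod 2) V → ¬ r ∣ 2 ^ i - 1

variable [Finite V] {r : ℕ} (hr : Primitive V r)
include hr

theorem Primitive.eq_zero_or {i : ℕ} (hi : i ≤ Module.finrank (ZMod 2) V) (h : r ∣ 2 ^ i - 1) :
    i = 0 ∨ i = Module.finrank (ZMod 2) V := by
  by_contra hc
  push Not at hc
  exact hr.min i (Nat.pos_of_ne_zero hc.1) (by omega) h

variable {ρ : W →* Module.End (ZMod 2) V} (H : TwoClosedStab ρ)
include H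

theorem fpf_of_order {g : W} (hg : orderOf g = r) {x : V} (hx : ρ g x = x) : x = 0 := by
  haveI := Fact.mk hr.prime
  by_contra hx0
  have h := card_modEq_fixEl ρ (p := r) (g := g) (by rw [← hg, pow_orderOf_eq_one]) (U := ⊤)
    (fun _ _ => trivial)
  rw [top_inf_eq, natCard_submodule, natCard_submodule, finrank_top] at h
  have h1 : 2 ^ Module.finrank (ZMod 2) V ≡ 1 [MOD r] :=
    ((Nat.modEq_iff_dvd' Nat.one_le_two_pow).mpr hr.dvd).symm
  have hdvd : r ∣ 2 ^ Module.finrank (ZMod 2) (fixEl ρ g) - 1 :=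
    (Nat.modEq_iff_dvd' Nat.one_le_two_pow).mp (h.symm.trans h1).symm
  rcases hr.eq_zero_or (Submodule.finrank_le _) hdvd with h0 | ha
  · have := (mem_fixEl ρ).mpr hx
    rw [Submodule.finrank_eq_zero.mp h0, Submodule.mem_bot] at this
    exact hx0 this
  · have hg1 : g = 1 := H.eq_one_of_fix fun y => (mem_fixEl ρ).mp (by
      rw [Submodule.eq_top_of_finrank_eq ha]; trivial)
    rw [hg1, orderOf_one] at hg
    exact hr.prime.one_lt.ne hg

theorem invariant_eq_bot_or_top {g : W} (hg : orderOf g = r) {X : Submodule (ZMod 2) V}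
    (hX : ∀ x ∈ X, ρ g x ∈ X) : X = ⊥ ∨ X = ⊤ := by
  haveI := Fact.mk hr.prime
  have h := prime_dvd_of_fpf ρ (p := r) (by rw [← hg, pow_orderOf_eq_one]) hX
    (fun x _ hx => fpf_of_order hr H hg hx)
  rw [natCard_submodule] at h
  rcases hr.eq_zero_or (Submodule.finrank_le _) h with h0 | ha
  · exact Or.inl (Submodule.finrank_eq_zero.mp h0)
  · exact Or.inr (Submodule.eq_top_of_finrank_eq ha)

theorem semiregular {g : W} (hg : orderOf g = r) {c : W} (hc : c * g = g * c) {x : V} (hx : x ≠ 0)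
    (hcx : ρ c x = x) : c = 1 := by
  rcases invariant_eq_bot_or_top hr H hg (X := fixEl ρ c)
    (fun y hy => apply_fixEl ρ hc.symm hy) with h | h
  · have := (mem_fixEl ρ).mpr hcx
    rw [h, Submodule.mem_bot] at this
    exact absurd this hx
  · exact H.eq_one_of_fix fun y => (mem_fixEl ρ).mp (by rw [h]; trivial)

variable [Finite W] [Nontrivial V]

theorem cen_cyclic {g : W} (hg : orderOf g = r) :
    IsCyclic (cen g) ∧ ∀ c ∈ cen g, ∀ d ∈ cen g, c * d = d * c := by
  classical
  obtain ⟨x₀, hx₀⟩ := exists_ne (0 : V)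
  let S := (Polynomial.aeval (R := ZMod 2) (ρ g)).range
  have hmem : ∀ c ∈ cen g, ρ c ∈ S := by
    intro c hc
    let φ : Polynomial (ZMod 2) →ₗ[ZMod 2] V :=
      (LinearMap.applyₗ x₀).comp (Polynomial.aeval (R := ZMod 2) (ρ g)).toLinearMap
    have hφ : LinearMap.range φ = ⊤ := by
      refine (invariant_eq_bot_or_top hr H hg ?_).resolve_left fun h => hx₀ ?_
      · rintro _ ⟨p, rfl⟩
        refine ⟨Polynomial.X * p, ?_⟩
        show (Polynomial.aeval (ρ g) (Polynomial.X * p)) x₀ = _
        rw [map_mul, Polynomial.aeval_X]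
        rfl
      · rw [← Submodule.mem_bot (ZMod 2), ← h]
        exact ⟨1, by show (Polynomial.aeval (ρ g) 1) x₀ = x₀; rw [map_one]; rfl⟩
    obtain ⟨p, hp⟩ := (hφ ▸ Submodule.mem_top : ρ c x₀ ∈ LinearMap.range φ)
    refine ⟨p, ?_⟩
    set P := Polynomial.aeval (ρ g) p with hP
    have hPg : Commute P (ρ g) := by
      have : Commute p Polynomial.X := Commute.all _ _
      have h := this.map (Polynomial.aeval (R := ZMod 2) (ρ g))
      rwa [Polynomial.aeval_X] at h
    have hcg : Commute (ρ c) (ρ g) := (show Commute c g from mem_cen.mp hc).map ρ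
    have hker : LinearMap.ker (P - ρ c) = ⊤ := by
      refine (invariant_eq_bot_or_top hr H hg ?_).resolve_left fun h => hx₀ ?_
      · intro y hy
        rw [LinearMap.mem_ker] at hy ⊢
        have h2 := congrArg (fun f : Module.End (ZMod 2) V => f y) (hPg.sub_left hcg).eq
        simp only [Module.End.mul_apply] at h2
        rw [h2, hy, map_zero]
      · rw [← Submodule.mem_bot (ZMod 2), ← h, LinearMap.mem_ker, LinearMap.sub_apply, sub_eq_zero]
        exact hp
    exact sub_eq_zero.mp (LinearMap.ker_eq_top.mp hker)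
  have hcomm : ∀ a ∈ S, ∀ b ∈ S, a * b = b * a := by
    rintro _ ⟨p, rfl⟩ _ ⟨q, rfl⟩
    show Polynomial.aeval (ρ g) p * Polynomial.aeval (ρ g) q =
      Polynomial.aeval (ρ g) q * Polynomial.aeval (ρ g) p
    rw [← map_mul, ← map_mul, mul_comm]
  letI : CommRing S :=
    { (inferInstance : Ring S) with mul_comm := fun a b => Subtype.ext (hcomm a a.2 b b.2) }
  haveI : Nontrivial S := ⟨⟨1, 0, fun h => by
    have h' : (1 : Module.End (ZMod 2) V) x₀ = (0 : Module.End (ZMod 2) V) x₀ :=
      congrArg (fun s : S => (s : Module.End (ZMod 2) V) x₀) h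
    exact hx₀ h'⟩⟩
  haveI : NoZeroDivisors S := ⟨fun {a b} hab => by
    by_contra hc
    push Not at hc
    obtain ⟨ha, hb⟩ := hc
    apply hb
    have hab' : (a : Module.End (ZMod 2) V) * b = 0 := congrArg Subtype.val hab
    rcases invariant_eq_bot_or_top hr H hg (X := LinearMap.ker (a : Module.End (ZMod 2) V))
      (fun y hy => by
        rw [LinearMap.mem_ker] at hy ⊢
        have h2 := congrArg (fun f : Module.End (ZMod 2) V => f y)
          (hcomm a a.2 (ρ g) ⟨Polynomial.X, Polynomial.aeval_X _⟩)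
        simp only [Module.End.mul_apply] at h2
        rw [h2, hy, map_zero]) with h | h
    · refine Subtype.ext (LinearMap.ext fun y => ?_)
      have : (a : Module.End (ZMod 2) V) ((b : Module.End (ZMod 2) V) y) = 0 :=
        congrArg (fun f : Module.End (ZMod 2) V => f y) hab'
      rw [← LinearMap.mem_ker, h, Submodule.mem_bot] at this
      exact this
    · exact absurd (Subtype.ext (LinearMap.ker_eq_top.mp h)) ha⟩
  haveI : IsDomain S := NoZeroDivisors.to_isDomain S
  let f : cen g →* S :=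
    { toFun := fun c => ⟨ρ c, hmem c c.2⟩
      map_one' := Subtype.ext (map_one ρ)
      map_mul' := fun a b => Subtype.ext (map_mul ρ _ _) }
  have hf : Function.Injective f := fun a b h => Subtype.ext (H.inj (congrArg Subtype.val h))
  refine ⟨isCyclic_of_subgroup_isDomain f hf, fun c hc d hd => H.inj ?_⟩
  rw [map_mul, map_mul]
  exact hcomm _ (hmem c hc) _ (hmem d hd)

theorem cen_eq {g h : W} (hg : orderOf g = r) (hh : orderOf h = r) (hc : g * h = h * g) :
    cen g = cen h :=
  le_antisymm (fun x hx => mem_cen.mpr ((cen_cyclic hr H hg).2 x hx h (mem_cen.mpr hc.symm)))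
    (fun x hx => mem_cen.mpr ((cen_cyclic hr H hh).2 x hx g (mem_cen.mpr hc)))

theorem cen_comm {g : W} (hg : orderOf g = r) {c d : W} (hc : c ∈ cen g) (hd : d ∈ cen g) :
    c * d = d * c :=
  (cen_cyclic hr H hg).2 c hc d hd

theorem cen_solvable {g : W} (hg : orderOf g = r) : Group.IsSolvable (cen g) :=
  isSolvable_of_comm fun a b => Subtype.ext (cen_comm hr H hg a.2 b.2)

theorem sylow_le_cen {g : W} (hg : orderOf g = r) {P : Sylow r W} (hP : g ∈ (P : Subgroup W)) :
    (P : Subgroup W) ≤ cen g := by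
  haveI := Fact.mk hr.prime
  haveI : Nontrivial (P : Subgroup W) := ⟨⟨⟨g, hP⟩, 1, fun e => by
    have e' : g = 1 := congrArg Subtype.val e
    rw [e', orderOf_one] at hg
    exact hr.prime.one_lt.ne hg⟩⟩
  haveI := P.2.center_nontrivial
  have hdvd : r ∣ Nat.card (Subgroup.center (P : Subgroup W)) := by
    obtain ⟨k, hk⟩ := IsPGroup.iff_card.mp (P.2.to_subgroup (Subgroup.center (P : Subgroup W)))
    rw [hk]
    refine dvd_pow_self r fun h0 => ?_
    rw [h0, pow_zero] at hk
    exact (Finite.one_lt_card (α := Subgroup.center (P : Subgroup W))).ne' hk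
  obtain ⟨z, hz⟩ := exists_prime_orderOf_dvd_card' r hdvd
  have hzW : orderOf ((z : (P : Subgroup W)) : W) = r := by
    rw [Subgroup.orderOf_coe, Subgroup.orderOf_coe, hz]
  have hzc : ∀ p ∈ (P : Subgroup W), p * ((z : (P : Subgroup W)) : W) =
      ((z : (P : Subgroup W)) : W) * p := fun p hp =>
    congrArg Subtype.val (Subgroup.mem_center_iff.mp z.2 ⟨p, hp⟩)
  rw [cen_eq hr H hg hzW (hzc g hP)]
  exact fun p hp => mem_cen.mpr (hzc p hp)

theorem exists_conj_commute {g h : W} (hg : orderOf g = r) (hh : orderOf h = r) :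
    ∃ w : W, cen (w * g * w⁻¹) = cen h := by
  haveI := Fact.mk hr.prime
  have hp : ∀ x : W, orderOf x = r → IsPGroup r (Subgroup.zpowers x) := fun x hx =>
    IsPGroup.of_card (n := 1) (by rw [Nat.card_zpowers, hx, pow_one])
  obtain ⟨P, hP⟩ := (hp g hg).exists_le_sylow
  obtain ⟨Q, hQ⟩ := (hp h hh).exists_le_sylow
  obtain ⟨w, hw⟩ := MulAction.exists_smul_eq W P Q
  have hwg : orderOf (w * g * w⁻¹) = r := by
    rw [← hg]; exact orderOf_injective (MulAut.conj w).toMonoidHom (MulAut.conj w).injective g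
  refine ⟨w, cen_eq hr H hwg hh (mem_cen.mp (sylow_le_cen hr H hh (hQ (Subgroup.mem_zpowers h)) ?_))⟩
  rw [← hw, Sylow.coe_subgroup_smul]
  exact Coprime.conj_mem_conj_smul (hP (Subgroup.mem_zpowers g))

theorem cen_odd {g : W} (hg : orderOf g = r) : Odd (Nat.card (cen g)) := by
  haveI : Fact (Nat.Prime 2) := ⟨Nat.prime_two⟩
  rw [← Nat.not_even_iff_odd, even_iff_two_dvd]
  intro h2
  obtain ⟨c, hc⟩ := exists_prime_orderOf_dvd_card' 2 h2
  have hcW : orderOf (c : W) = 2 := (Subgroup.orderOf_coe c).trans hc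
  have hc2 : (c : W) * c = 1 := by rw [← pow_two, ← hcW, pow_orderOf_eq_one]
  obtain ⟨x, hx⟩ := exists_ne (0 : V)
  have hcg := mem_cen.mp c.2
  have h1 : ρ (c : W) x ≠ x := fun e => by
    have := semiregular hr H hg hcg hx e
    rw [this, orderOf_one] at hcW
    omega
  have hy : ρ (c : W) x + x ≠ 0 := fun e => h1 (by
    rwa [add_eq_zero_iff_eq_neg, ZModModule.neg_eq_self] at e)
  have := semiregular hr H hg hcg hy (by
    rw [map_add, ← apply_mul, hc2, map_one, add_comm]; rfl)
  rw [this, orderOf_one] at hcW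
  omega

theorem dvd_card_sylow (hn : 1 < Nat.card (Sylow 2 W)) : r ∣ Nat.card (Sylow 2 W) := by
  haveI : Fact (Nat.Prime 2) := ⟨Nat.prime_two⟩
  obtain ⟨S⟩ : Nonempty (Sylow 2 W) := inferInstance
  have h := H.card_sylow_mul S
  have hm := H.finrank_fix_pos S
  have hle := Submodule.finrank_le (fix ρ (S : Subgroup W))
  refine ((Nat.Prime.dvd_mul hr.prime).mp (h ▸ hr.dvd)).resolve_right fun hd => ?_
  rcases hr.eq_zero_or hle hd with h0 | h0
  · omega
  · rw [h0] at h
    have hpos : 0 < 2 ^ Module.finrank (ZMod 2) V - 1 := by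
      have := Nat.one_lt_two_pow (n := Module.finrank (ZMod 2) V) (by omega)
      omega
    have := Nat.eq_of_mul_eq_mul_right hpos (h.trans (one_mul _).symm)
    omega

theorem dvd_card_of_not_solvable (hns : ¬ Group.IsSolvable W) : r ∣ Nat.card W := by
  haveI : Fact (Nat.Prime 2) := ⟨Nat.prime_two⟩
  obtain ⟨S⟩ : Nonempty (Sylow 2 W) := inferInstance
  have hn : 1 < Nat.card (Sylow 2 W) := by
    rw [Finite.one_lt_card_iff_nontrivial, ← not_subsingleton_iff_nontrivial]
    intro hs
    exact hns (solvable_of_normal_sylow_two S (Sylow.normal_of_subsingleton S))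
  refine (dvd_card_sylow hr H hn).trans ?_
  rw [S.card_eq_index_normalizer]
  exact Subgroup.index_dvd_card _

omit hr [Nontrivial V] in
theorem TwoClosedStab.restrict (N : Subgroup W) [N.Normal] :
    TwoClosedStab (ρ.comp N.subtype) where
  inj := H.inj.comp N.subtype_injective
  sylow x hx := by
    haveI : Fact (Nat.Prime 2) := ⟨Nat.prime_two⟩
    obtain ⟨S, hS, hSn⟩ := H.sylow x hx
    have hp : IsPGroup 2 ((S : Subgroup W).subgroupOf N) := S.2.comap_subtype
    have hidx : ¬ 2 ∣ ((S : Subgroup W).subgroupOf N).index := fun h =>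
      S.not_dvd_index (h.trans (Fitting.relIndex_dvd_index_of_normal_right _ N))
    refine ⟨hp.toSylow hidx, ?_, ?_⟩
    · intro n hn
      exact hS (hn : (n : W) ∈ (S : Subgroup W))
    · intro n hn
      refine Subgroup.mem_normalizer_iff.mpr fun y => ?_
      show (y : W) ∈ (S : Subgroup W) ↔ (n : W) * y * (n : W)⁻¹ ∈ (S : Subgroup W)
      exact Subgroup.mem_normalizer_iff.mp (hSn hn) _

end CfsgLib.RealClassGraph
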