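import Cfsg.Agent.Lib.RealClassGraph.Stab
import Cfsg.Agent.Lib.OddConseq.ClassSize

/-!
The case where the fixed space of a Sylow `2`-subgroup is that of each of its involutions.
-/

set_option autoImplicit false
set_option linter.style.haveILetI false

namespace CfsgLib.RealClassGraph

universe u v

variable {W : Type u} [Group W] [Finite W] {V : Type v} [AddCommGroup V] [Module (ZMod 2) V]
  [Finite V] [Nontrivial V] {ρ : W →* Module.End (ZMod 2) V}

theorem exists_involution_mem {S : Subgroup W} (hS : IsPGroup 2 S) {x : W} (hx : x ∈ S)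
    (hx1 : x ≠ 1) : ∃ b ∈ Subgroup.zpowers x, b * b = 1 ∧ b ≠ 1 := by
  obtain ⟨k, hk⟩ := hS ⟨x, hx⟩
  have hk' : x ^ 2 ^ k = 1 := congrArg Subtype.val hk
  obtain ⟨j, -, hj⟩ := (Nat.dvd_prime_pow Nat.prime_two).mp (orderOf_dvd_of_pow_eq_one hk')
  have hj0 : j ≠ 0 := fun h => hx1 (orderOf_eq_one_iff.mp (by rw [hj, h, pow_zero]))
  refine ⟨x ^ 2 ^ (j - 1), pow_mem (Subgroup.mem_zpowers x) _, ?_, ?_⟩
  · rw [← pow_add, ← two_mul, ← pow_succ', Nat.sub_add_cancel (Nat.one_le_iff_ne_zero.mpr hj0),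
      ← hj, pow_orderOf_eq_one]
  · intro h
    have := Nat.le_of_dvd (by positivity) (orderOf_dvd_of_pow_eq_one h)
    rw [hj] at this
    have := (Nat.pow_le_pow_iff_right (le_refl 2)).mp this
    omega

theorem solvable_of_fix_eq (H : RealFree ρ) (S : Sylow 2 W)
    (hq : 2 * Module.finrank (ZMod 2) (fix ρ (S : Subgroup W)) = Module.finrank (ZMod 2) V) :
    Group.IsSolvable W := by
  classical
  haveI : Fact (Nat.Prime 2) := ⟨Nat.prime_two⟩
  by_contra hns
  haveI := Fintype.ofFinite (Sylow 2 W)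
  haveI := Fintype.ofFinite W
  -- every involution lies in exactly one Sylow subgroup
  have hU : ∀ (T : Sylow 2 W) (b : W), b ∈ (T : Subgroup W) → b * b = 1 → b ≠ 1 →
      fixEl ρ b = fix ρ (T : Subgroup W) := by
    intro T b hbT hb hb1
    refine (Submodule.eq_of_le_of_finrank_le (fun x hx => (mem_fixEl ρ).mpr ((mem_fix ρ).mp hx b hbT)) ?_).symm
    have := (H.fixEl_involution hb hb1).1
    rw [TwoClosedStab.finrank_fix_eq T S]
    omega
  have hone : ∀ (T T' : Sylow 2 W) (b : W), b ∈ (T : Subgroup W) → b ∈ (T' : Subgroup W) →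
      b * b = 1 → b ≠ 1 → T = T' := by
    intro T T' b hT hT' hb hb1
    have hpos := H.finrank_fix_pos T
    rw [Module.finrank_pos_iff] at hpos
    obtain ⟨x, hx⟩ := exists_ne (0 : fix ρ (T : Subgroup W))
    exact H.sylow_eq (x := (x : V)) (fun h => hx (Subtype.ext h)) x.2
      (by rw [← hU T' b hT' hb hb1, hU T b hT hb hb1]; exact x.2)
  -- Sylow subgroups have exponent two
  have hexp : ∀ s ∈ (S : Subgroup W), s * s = 1 := by
    intro s hs
    by_contra hs2
    obtain ⟨k, hk⟩ := S.2 ⟨s, hs⟩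
    have hk' : s ^ 2 ^ k = 1 := congrArg Subtype.val hk
    obtain ⟨j, -, hj⟩ := (Nat.dvd_prime_pow Nat.prime_two).mp (orderOf_dvd_of_pow_eq_one hk')
    have hj2 : 2 ≤ j := by
      by_contra h
      interval_cases j
      · rw [pow_zero, orderOf_eq_one_iff] at hj
        exact hs2 (by rw [hj, one_mul])
      · exact hs2 (by rw [← pow_two, ← pow_one 2, ← hj, pow_orderOf_eq_one])
    obtain ⟨i, hi, b, hbdef, hb, hb1⟩ :
        ∃ i ∈ (S : Subgroup W), ∃ b, i * i = b ∧ b * b = 1 ∧ b ≠ 1 := by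
      refine ⟨s ^ 2 ^ (j - 2), pow_mem hs _, _, rfl, ?_, ?_⟩
      · rw [← pow_add, ← pow_add, ← two_mul, ← two_mul, ← mul_assoc, show 2 * 2 = 2 ^ 2 from rfl,
          ← pow_add, show 2 + (j - 2) = j by omega, ← hj, pow_orderOf_eq_one]
      · intro h
        rw [← pow_add, ← two_mul, ← pow_succ', show j - 2 + 1 = j - 1 by omega] at h
        have := Nat.le_of_dvd (by positivity) (orderOf_dvd_of_pow_eq_one h)
        rw [hj] at this
        have := (Nat.pow_le_pow_iff_right (le_refl 2)).mp this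
        omega
    have hbS : b ∈ (S : Subgroup W) := hbdef ▸ mul_mem hi hi
    let N : Module.End (ZMod 2) V := ρ i + 1
    have hNN : ∀ x, N (N x) = ρ b x + x := by
      intro x
      show ρ i (ρ i x + x) + (ρ i x + x) = ρ b x + x
      rw [map_add, ← hbdef, apply_mul]
      calc ρ i (ρ i x) + ρ i x + (ρ i x + x) = ρ i (ρ i x) + (ρ i x + ρ i x) + x := by abel
        _ = _ := by rw [add_self_zero, add_zero]
    have hker : ∀ x, N (N x) = 0 → N x = 0 := by
      intro x hx
      rw [hNN] at hx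
      have hx' : x ∈ fixEl ρ b := hx
      rw [hU S b hbS hb hb1] at hx'
      show ρ i x + x = 0
      rw [hx' i hi, add_self_zero]
    refine hb1 (H.eq_one_of_fix fun x => (mem_fixEl ρ).mp ?_)
    show ρ b x + x = 0
    have h4 : ρ b (ρ b x + x) + (ρ b x + x) = 0 := by
      rw [map_add, ← apply_mul, hb, map_one]
      show x + ρ b x + (ρ b x + x) = 0
      calc x + ρ b x + (ρ b x + x) = (x + x) + (ρ b x + ρ b x) := by abel
        _ = 0 := by rw [add_self_zero, add_self_zero, add_zero]
    rw [← hNN, ← hNN] at h4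
    rw [← hNN, hker _ (hker _ (hker _ h4)), map_zero]
  by_cases h4 : 4 ∣ Nat.card W
  swap
  · exact hns (OddConseq.solvable_of_not_four_dvd (fun G _ _ h => OddOrder.odd_order_solvable h) _ W
      rfl (fun x h => h4 (h.trans (Subgroup.index_dvd_card _))))
  have hScard : 4 ≤ Nat.card (S : Subgroup W) := by
    refine Nat.le_of_dvd Nat.card_pos ?_
    have h := S.pow_dvd_card_of_pow_dvd_card (n := 2)
      (show 2 ^ 2 ∣ Nat.card W from h4)
    exact h
  have hnotnormal : ¬ (S : Subgroup W).Normal := fun h =>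
    hns (solvable_of_normal_sylow_two S h)
  -- two involutions moving `S` to the same subgroup
  let I : Finset W := Finset.univ.filter fun v => v * v = 1 ∧ v ≠ 1 ∧ v ∉ (S : Subgroup W)
  have hmaps : ∀ v ∈ I, v • S ∈ Finset.univ.erase S := by
    intro v hv
    obtain ⟨hv2, -, hvS⟩ := (Finset.mem_filter.mp hv).2
    refine Finset.mem_erase.mpr ⟨fun h => hvS ?_, Finset.mem_univ _⟩
    exact mem_sylow_of_two_element S ⟨1, by rw [pow_one, pow_two, hv2]⟩
      (Sylow.smul_eq_iff_mem_normalizer.mp h)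
  have hlt : (Finset.univ.erase S).card < I.card := by
    rw [Finset.card_erase_of_mem (Finset.mem_univ _), Finset.card_univ]
    -- each other Sylow subgroup contributes its non-identity elements
    have hsub : ((Finset.univ.erase S).biUnion fun T : Sylow 2 W =>
        Finset.univ.filter fun v : W => v ∈ (T : Subgroup W) ∧ v ≠ 1) ⊆ I := by
      intro v hv
      obtain ⟨T, hT, hv⟩ := Finset.mem_biUnion.mp hv
      obtain ⟨hvT, hv1⟩ := (Finset.mem_filter.mp hv).2
      obtain ⟨g, hg⟩ := MulAction.exists_smul_eq W S T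
      have hv2 : v * v = 1 := by
        rw [← hg, Sylow.coe_subgroup_smul, Subgroup.mem_pointwise_smul_iff_inv_smul_mem, ← map_inv,
          MulAut.smul_def, MulAut.conj_apply, inv_inv] at hvT
        have h := hexp _ hvT
        calc v * v = g * (g⁻¹ * v * g * (g⁻¹ * v * g)) * g⁻¹ := by group
          _ = 1 := by rw [h]; group
      exact Finset.mem_filter.mpr ⟨Finset.mem_univ _, hv2, hv1, fun hvS =>
        (Finset.mem_erase.mp hT).1 (hone T S v hvT hvS hv2 hv1)⟩
    refine lt_of_lt_of_le ?_ (Finset.card_le_card hsub)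
    rw [Finset.card_biUnion]
    · have hterm : ∀ T : Sylow 2 W,
          (Finset.univ.filter fun v : W => v ∈ (T : Subgroup W) ∧ v ≠ 1).card + 1 =
            Nat.card (S : Subgroup W) := by
        intro T
        rw [Sylow.card_eq_multiplicity S, ← Sylow.card_eq_multiplicity T, Nat.card_eq_fintype_card,
          Fintype.card_subtype, ← Finset.card_erase_add_one (s := Finset.univ.filter
            fun v : W => v ∈ (T : Subgroup W)) (a := 1) (by simp)]
        congr 2
        ext v
        simp [and_comm]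
      have hn : 1 < Fintype.card (Sylow 2 W) := by
        by_contra h
        refine hnotnormal ?_
        haveI : Subsingleton (Sylow 2 W) := Fintype.card_le_one_iff_subsingleton.mp (by omega)
        exact Sylow.normal_of_subsingleton S
      calc Fintype.card (Sylow 2 W) - 1
          < ((Finset.univ : Finset (Sylow 2 W)).erase S).card * 2 := by
            rw [Finset.card_erase_of_mem (Finset.mem_univ _), Finset.card_univ]; omega
        _ = ∑ _T ∈ (Finset.univ : Finset (Sylow 2 W)).erase S, 2 := by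
            rw [Finset.sum_const, smul_eq_mul]
        _ ≤ _ := Finset.sum_le_sum fun T _ => by have := hterm T; omega
    · intro T hT T' hT' hne
      rw [Function.onFun, Finset.disjoint_left]
      intro v hv hv'
      obtain ⟨hvT, hv1⟩ := (Finset.mem_filter.mp hv).2
      obtain ⟨hvT', -⟩ := (Finset.mem_filter.mp hv').2
      obtain ⟨b, hbz, hb, hb1⟩ := exists_involution_mem T.2 hvT hv1
      exact hne (hone T T' b (Subgroup.zpowers_le.mpr hvT hbz) (Subgroup.zpowers_le.mpr hvT' hbz)
        hb hb1)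
  obtain ⟨v, hv, v', hv', hne, he⟩ :=
    Finset.exists_ne_map_eq_of_card_lt_of_maps_to hlt (f := fun v => v • S) hmaps
  obtain ⟨hv2, hv1, -⟩ := (Finset.mem_filter.mp hv).2
  obtain ⟨hv'2, hv'1, -⟩ := (Finset.mem_filter.mp hv').2
  have he' : v • S = v' • S := he
  set d := v * v' with hd
  have hd1 : d ≠ 1 := fun h => hne (by
    rw [← mul_one v, ← hv'2, ← mul_assoc, ← hd, h, one_mul])
  have hdS : d • S = S := by
    rw [hd, mul_smul, ← he', smul_smul, hv2, one_smul]
  have hdT : d • (v • S) = v • S := by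
    rw [hd, he', mul_smul, smul_smul v' v', hv'2, one_smul, he']
  have hne' : v • S ≠ S := (Finset.mem_erase.mp (hmaps v hv)).1
  have hodd : Odd (orderOf d) := by
    rw [← Nat.not_even_iff_odd, even_iff_two_dvd]
    rintro ⟨c, hc⟩
    have hc0 : 0 < c := by have := orderOf_pos d; omega
    have hb : d ^ c * d ^ c = 1 := by rw [← pow_add, ← two_mul, ← hc, pow_orderOf_eq_one]
    have hb1 : d ^ c ≠ 1 := pow_ne_one_of_lt_orderOf hc0.ne' (by omega)
    exact hne' (hone _ _ (d ^ c)
      (mem_sylow_of_two_element (v • S) ⟨1, by rw [pow_one, pow_two, hb]⟩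
        (pow_mem (Sylow.smul_eq_iff_mem_normalizer.mp hdT) c))
      (mem_sylow_of_two_element S ⟨1, by rw [pow_one, pow_two, hb]⟩
        (pow_mem (Sylow.smul_eq_iff_mem_normalizer.mp hdS) c)) hb hb1)
  have hinv : v * d * v⁻¹ = d⁻¹ := by
    rw [hd, mul_inv_rev, inv_eq_of_mul_eq_one_right hv2, inv_eq_of_mul_eq_one_right hv'2,
      ← mul_assoc, hv2, one_mul]
  have hpos := H.finrank_fix_pos S
  rw [Module.finrank_pos_iff] at hpos
  obtain ⟨x, hx⟩ := exists_ne (0 : fix ρ (S : Subgroup W))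
  have hx0 : (x : V) ≠ 0 := fun h => hx (Subtype.ext h)
  have hconj := H.conj_mem ⟨v, hinv⟩ hodd hd1 hx0 (M := Subgroup.normalizer
    ((S : Subgroup W) : Set W)) (H.unique hx0 x.2) (Sylow.smul_eq_iff_mem_normalizer.mp hdS)
  set D := Subgroup.normalClosure ({d} : Set W) with hD
  have hDle : D ≤ Subgroup.normalizer ((S : Subgroup W) : Set W) := by
    refine (Subgroup.closure_le _).mpr fun y hy => ?_
    obtain ⟨z, hz, hzy⟩ := Group.mem_conjugatesOfSet_iff.mp hy
    obtain ⟨w, rfl⟩ := isConj_iff.mp hzy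
    rw [Set.mem_singleton_iff.mp hz]
    exact hconj w
  haveI : D.Normal := Subgroup.normalClosure_normal
  have hbot : D ⊓ (S : Subgroup W) = ⊥ := by
    haveI : (D ⊓ (S : Subgroup W)).Normal := ⟨fun s hs w => by
      refine Subgroup.mem_inf.mpr ⟨Subgroup.Normal.conj_mem inferInstance s hs.1 w,
        mem_sylow_of_two_element S ⟨1, ?_⟩ (hDle (Subgroup.Normal.conj_mem inferInstance s hs.1 w))⟩
      rw [pow_one, pow_two, show w * s * w⁻¹ * (w * s * w⁻¹) = w * (s * s) * w⁻¹ by group,
        hexp s hs.2]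
      group⟩
    exact H.core_eq_bot (S.2.to_le inf_le_right)
  have hcomm : ∀ s ∈ (S : Subgroup W), ∀ y ∈ D, s * y = y * s := by
    intro s hs y hy
    have h1 : s * y * s⁻¹ * y⁻¹ ∈ D ⊓ (S : Subgroup W) := by
      refine Subgroup.mem_inf.mpr ⟨mul_mem (Subgroup.Normal.conj_mem inferInstance y hy s)
        (inv_mem hy), ?_⟩
      rw [show s * y * s⁻¹ * y⁻¹ = s * (y * s⁻¹ * y⁻¹) by group]
      exact mul_mem hs ((Subgroup.mem_normalizer_iff.mp (hDle hy) _).mp (inv_mem hs))
    rw [hbot, Subgroup.mem_bot] at h1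
    exact mul_inv_eq_iff_eq_mul.mp (mul_inv_eq_one.mp h1)
  obtain ⟨T, hT⟩ := (ZJ.isPGroup_zpowers_of_pow (p := 2) (x := v)
    ⟨1, by rw [pow_one, pow_two, hv2]⟩).exists_le_sylow
  obtain ⟨g, rfl⟩ := MulAction.exists_smul_eq W S T
  have hvg : g⁻¹ * v * g ∈ (S : Subgroup W) := by
    have h := hT (Subgroup.mem_zpowers v)
    rwa [Sylow.coe_subgroup_smul, Subgroup.mem_pointwise_smul_iff_inv_smul_mem, ← map_inv,
      MulAut.smul_def, MulAut.conj_apply, inv_inv] at h
  have hdD := (Subgroup.normalClosure_normal (s := ({d} : Set W))).conj_mem d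
    (Subgroup.subset_normalClosure rfl) g⁻¹
  rw [inv_inv, ← hD] at hdD
  have h := hcomm _ hvg (g⁻¹ * d * g) hdD
  refine hd1 (eq_one_of_odd_of_eq_inv hodd ?_)
  calc d = g * (g⁻¹ * v * g * (g⁻¹ * d * g) * (g⁻¹ * v * g)⁻¹) * g⁻¹ := by rw [h]; group
    _ = v * d * v⁻¹ := by group
    _ = d⁻¹ := hinv

end CfsgLib.RealClassGraph
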