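import Cfsg.Agent.Lib.RealClassGraph.Orbit
import Cfsg.Agent.Lib.Coprime.Action

/-!
The module of dimension six.
-/

set_option autoImplicit false
set_option linter.style.haveILetI false

namespace CfsgLib.RealClassGraph

universe u v

variable {W : Type u} [Group W] [Finite W] {V : Type v} [AddCommGroup V] [Module (ZMod 2) V]
  [Finite V] {ρ : W →* Module.End (ZMod 2) V}

namespace RealFree

variable (H : RealFree ρ)
include H

theorem no_six (hns : ¬ Group.IsSolvable W) (S : Sylow 2 W)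
    (h6 : Module.finrank (ZMod 2) V = 6)
    (hm : Module.finrank (ZMod 2) (fix ρ (S : Subgroup W)) = 1) : False := by
  classical
  haveI : Fact (Nat.Prime 2) := ⟨Nat.prime_two⟩
  haveI : Fact (Nat.Prime 7) := ⟨by norm_num⟩
  -- fixed spaces have one non-zero vector
  have huniq : ∀ (T : Sylow 2 W) (x y : V), x ∈ fix ρ (T : Subgroup W) →
      y ∈ fix ρ (T : Subgroup W) → x ≠ 0 → y ≠ 0 → x = y := by
    intro T x y hx hy hx0 hy0
    have hc : Nat.card (fix ρ (T : Subgroup W)) = 2 := by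
      rw [natCard_submodule, TwoClosedStab.finrank_fix_eq T S, hm, pow_one]
    obtain ⟨a, -, ha⟩ := (Nat.card_eq_two_iff' (0 : fix ρ (T : Subgroup W))).mp hc
    have h1 := ha ⟨x, hx⟩ (fun e => hx0 (congrArg Subtype.val e))
    have h2 := ha ⟨y, hy⟩ (fun e => hy0 (congrArg Subtype.val e))
    exact congrArg Subtype.val (h1.trans h2.symm)
  have htrans : ∀ x y : V, x ≠ 0 → y ≠ 0 → ∃ g : W, ρ g x = y := by
    intro x y hx hy
    obtain ⟨Sx, hSx, -⟩ := H.sylow x hx
    obtain ⟨Sy, hSy, -⟩ := H.sylow y hy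
    obtain ⟨g, hg⟩ := MulAction.exists_smul_eq W Sx Sy
    exact ⟨g, huniq Sy _ _ (hg ▸ TwoClosedStab.mem_fix_smul hSx) hSy
      (fun e => hx (by rw [← apply_inv_apply ρ g x, e, map_zero])) hy⟩
  have hctr : ∀ y : W, IsReal y → Odd (orderOf y) → y ≠ 1 → ∀ x z : V, x ≠ 0 → z ≠ 0 →
      ∃ c : W, c * y = y * c ∧ ρ c x = z := by
    intro y hy ho hy1 x z hx hz
    obtain ⟨g, hg⟩ := htrans x z hx hz
    obtain ⟨c, τ, hc, hτ, rfl⟩ := (H.real y hy ho hy1 x hx).2 g
    exact ⟨c, hc, by rw [← hg, apply_mul, (mem_stab ρ).mp hτ]⟩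
  obtain ⟨v₀, hv₀⟩ : ∃ v₀ : V, v₀ ≠ 0 := by
    by_contra h
    push Not at h
    haveI : Subsingleton V := ⟨fun a b => by rw [h a, h b]⟩
    rw [Module.finrank_zero_of_subsingleton] at h6
    omega
  -- no real element of order seven
  have hseven : ∀ y : W, IsReal y → y ^ 7 = 1 → y = 1 := by
    intro y hyr hy7
    by_contra hy1
    have ho : Odd (orderOf y) := by rw [orderOf_eq_prime hy7 hy1]; decide
    have hfpf : ∀ x, ρ y x = x → x = 0 := fun x hx => by
      by_contra hx0
      exact (H.real y hyr ho hy1 x hx0).1 hx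
    let Y : Module.End (ZMod 2) V := ρ y
    have hsum : ∀ x, ∑ i ∈ Finset.range 7, ρ (y ^ i) x = 0 := by
      intro x
      refine hfpf _ ?_
      rw [map_sum]
      simp only [← apply_mul, ← pow_succ']
      have h1 := Finset.sum_range_succ' (fun i => ρ (y ^ i) x) 7
      have h2 := Finset.sum_range_succ (fun i => ρ (y ^ i) x) 7
      rw [h2, hy7, pow_zero] at h1
      exact add_right_cancel h1.symm
    let f : V → V := fun x => ρ (y ^ 3) x + ρ y x + x
    let f' : V → V := fun x => ρ (y ^ 3) x + ρ (y ^ 2) x + x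
    have hff : ∀ x, f (f' x) = 0 := by
      intro x
      refine Eq.trans ?_ (hsum x)
      simp only [f, f', Finset.sum_range_succ, Finset.sum_range_zero, map_add, ← apply_mul,
        ← pow_add, ← pow_succ', pow_zero, map_one, pow_one]
      show _ = 0 + x + ρ y x + _ + _ + _ + _ + _
      have h3 := add_self_zero (ρ (y ^ 3) x)
      calc ρ (y ^ (3 + 3)) x + ρ (y ^ (3 + 2)) x + ρ (y ^ 3) x +
            (ρ (y ^ (3 + 1)) x + ρ (y ^ (2 + 1)) x + ρ y x) +
            (ρ (y ^ 3) x + ρ (y ^ 2) x + x)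
          = 0 + x + ρ y x + ρ (y ^ 2) x + ρ (y ^ 3) x + ρ (y ^ 4) x + ρ (y ^ 5) x + ρ (y ^ 6) x +
            (ρ (y ^ 3) x + ρ (y ^ 3) x) := by abel
        _ = _ := by rw [h3, add_zero]
    have hcomm : ∀ (c : W), c * y = y * c → ∀ x, f (ρ c x) = ρ c (f x) ∧
        f' (ρ c x) = ρ c (f' x) := by
      intro c hc x
      have hk : ∀ n : ℕ, ρ (y ^ n) (ρ c x) = ρ c (ρ (y ^ n) x) := fun n => by
        rw [← apply_mul, ← apply_mul, ((show Commute c y from hc).pow_right n).eq]
      have hk1 := hk 1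
      rw [pow_one] at hk1
      simp only [f, f', map_add, hk, hk1, and_self]
    obtain ⟨g, hg⟩ := hyr
    have hflip : ∀ x, ρ g (f (ρ g⁻¹ x)) = ρ (y⁻¹) (ρ (y⁻¹) (ρ (y⁻¹) (f' x))) := by
      intro x
      have hgy : ∀ n : ℕ, ρ g (ρ (y ^ n) (ρ g⁻¹ x)) = ρ (y⁻¹ ^ n) x := fun n => by
        rw [← apply_mul, ← apply_mul, ← hg, conj_pow, mul_assoc]
      have hgy1 := hgy 1
      rw [pow_one, pow_one] at hgy1
      simp only [f, f', map_add, hgy, hgy1, apply_apply_inv]
      simp only [← apply_mul]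
      rw [show y⁻¹ * (y⁻¹ * (y⁻¹ * y ^ 3)) = 1 by group,
        show y⁻¹ * (y⁻¹ * (y⁻¹ * y ^ 2)) = y⁻¹ by group,
        show y⁻¹ * (y⁻¹ * y⁻¹) = y⁻¹ ^ 3 by group, map_one]
      show _ = x + _ + _
      abel
    have hzero : (∀ x, f x = 0) ∧ (∀ x, f' x = 0) := by
      by_cases hex : ∃ x, x ≠ 0 ∧ f x = 0
      · obtain ⟨x, hx0, hx⟩ := hex
        have hall : ∀ z, f z = 0 := by
          intro z
          by_cases hz : z = 0
          · simp [f, hz]
          · obtain ⟨c, hc, rfl⟩ := hctr y ⟨g, hg⟩ ho hy1 x z hx0 hz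
            rw [(hcomm c hc x).1, hx, map_zero]
        refine ⟨hall, fun z => ?_⟩
        have h := hflip z
        rw [hall, map_zero] at h
        have h' := congrArg (fun w => ρ y (ρ y (ρ y w))) h
        simpa [apply_apply_inv] using h'.symm
      · push Not at hex
        have hall' : ∀ x, f' x = 0 := fun x => by
          by_contra hx
          exact hex _ hx (hff x)
        refine ⟨fun z => ?_, hall'⟩
        have h := hflip (ρ g z)
        rw [hall', map_zero, map_zero, map_zero, apply_inv_apply] at h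
        have h' := congrArg (ρ g⁻¹) h
        rwa [apply_inv_apply, map_zero] at h'
    have h1 : ρ y v₀ = ρ (y ^ 2) v₀ := by
      have e1 := hzero.1 v₀
      have e2 := hzero.2 v₀
      have e3 : f v₀ + f' v₀ = 0 := by rw [e1, e2, add_zero]
      simp only [f, f'] at e3
      have e4 : ρ y v₀ + ρ (y ^ 2) v₀ = 0 := by
        rw [← e3]
        have a1 := add_self_zero (ρ (y ^ 3) v₀)
        have a2 := add_self_zero v₀
        calc ρ y v₀ + ρ (y ^ 2) v₀ = ρ y v₀ + ρ (y ^ 2) v₀ + (ρ (y ^ 3) v₀ + ρ (y ^ 3) v₀) +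
              (v₀ + v₀) := by rw [a1, a2, add_zero, add_zero]
          _ = _ := by abel
      rwa [add_eq_zero_iff_eq_neg, ZModModule.neg_eq_self] at e4
    have h2 := congrArg (ρ y⁻¹) h1
    rw [apply_inv_apply, pow_two, apply_mul, apply_inv_apply] at h2
    exact hv₀ (hfpf v₀ h2.symm)
  -- real elements have no prime order seven and preserve no 8-element subspace
  have height : ∀ x : W, IsReal x → Odd (orderOf x) → x ≠ 1 → ∀ U : Submodule (ZMod 2) V,
      (∀ u ∈ U, ρ x u ∈ U) → Module.finrank (ZMod 2) U ≠ 3 := by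
    intro x hxr ho hx1 U hU h3
    obtain ⟨q, hq, hqd⟩ := Nat.exists_prime_and_dvd (mt orderOf_eq_one_iff.mp hx1)
    haveI := Fact.mk hq
    obtain ⟨c, hc⟩ := hqd
    have hxq : (x ^ c) ^ q = 1 := by rw [← pow_mul, mul_comm, ← hc, pow_orderOf_eq_one]
    have hxc1 : x ^ c ≠ 1 := by
      have hc0 : 0 < c := Nat.pos_of_ne_zero fun h => (orderOf_pos x).ne' (by rw [hc, h, mul_zero])
      exact pow_ne_one_of_lt_orderOf hc0.ne' (by have := hq.two_le; rw [hc]; nlinarith)
    have hodd : Odd (orderOf (x ^ c)) := ho.of_dvd_nat (orderOf_pow_dvd c)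
    have hUc : ∀ n : ℕ, ∀ u ∈ U, ρ (x ^ n) u ∈ U := by
      intro n
      induction n with
      | zero => intro u hu; rw [pow_zero, map_one]; exact hu
      | succ n ih => intro u hu; rw [pow_succ, apply_mul]; exact ih _ (hU u hu)
    have h := prime_dvd_of_fpf ρ hxq (hUc c) (fun u _ hu => by
      by_contra hu0
      exact (H.real _ (hxr.pow c) hodd hxc1 u hu0).1 hu)
    rw [natCard_submodule, h3] at h
    have : q = 7 := (Nat.prime_dvd_prime_iff_eq hq (by norm_num)).mp (by simpa using h)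
    subst this
    exact hxc1 (hseven _ (hxr.pow c) hxq)
  -- an involution of the centre of a Sylow subgroup and an element it inverts
  have hS1 : Nontrivial (S : Subgroup W) := by
    rcases subsingleton_or_nontrivial (S : Subgroup W) with hs | hs
    · refine absurd (solvable_of_normal_sylow_two S ?_) hns
      rw [Subgroup.eq_bot_of_subsingleton (S : Subgroup W)]
      infer_instance
    · exact hs
  haveI := S.2.center_nontrivial
  obtain ⟨z, hzZ⟩ := exists_ne (1 : Subgroup.center (S : Subgroup W))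
  obtain ⟨z, hz2, hz1, hzc, hzS⟩ : ∃ z : W, z * z = 1 ∧ z ≠ 1 ∧
      (∀ s ∈ (S : Subgroup W), s * z = z * s) ∧ z ∈ (S : Subgroup W) := by
    obtain ⟨k, hk⟩ := S.2 (z : (S : Subgroup W))
    have hz1 : (z : (S : Subgroup W)) ≠ 1 := fun h => hzZ (Subtype.ext h)
    obtain ⟨j, -, hj⟩ := (Nat.dvd_prime_pow Nat.prime_two).mp (orderOf_dvd_of_pow_eq_one hk)
    obtain ⟨i, rfl⟩ : ∃ i, j = i + 1 := Nat.exists_eq_succ_of_ne_zero
      (fun h => hz1 (orderOf_eq_one_iff.mp (by rw [hj, h, pow_zero])))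
    set z' := (z : (S : Subgroup W)) ^ 2 ^ i with hz'
    refine ⟨(z' : W), ?_, ?_, fun s hs => ?_, z'.2⟩
    · rw [← Subgroup.coe_mul, hz', ← pow_add, ← two_mul, ← pow_succ', ← hj, pow_orderOf_eq_one]
      rfl
    · intro h
      exact pow_ne_one_of_lt_orderOf (by positivity)
        (by rw [hj]; exact Nat.pow_lt_pow_right one_lt_two (Nat.lt_succ_self i)) (Subtype.ext h)
    · exact congrArg Subtype.val (Subgroup.mem_center_iff.mp
        (Subgroup.pow_mem _ z.2 (2 ^ i)) ⟨s, hs⟩)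
  obtain ⟨x, hx1, hxo, hzx⟩ := H.exists_inverted hz2 hz1
  have hxr : IsReal x := ⟨z, hzx⟩
  set C := Subgroup.centralizer ({x} : Set W) with hC
  have hCmem : ∀ {c : W}, c ∈ C ↔ c * x = x * c := fun {c} => by
    rw [hC, Subgroup.mem_centralizer_singleton_iff]
  have hCodd : Odd (Nat.card C) := by
    rw [← Nat.not_even_iff_odd, even_iff_two_dvd]
    intro h2
    obtain ⟨c, hc⟩ := exists_prime_orderOf_dvd_card' 2 h2
    have hcW : orderOf (c : W) = 2 := (Subgroup.orderOf_coe c).trans hc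
    have hc2 : (c : W) * c = 1 := by rw [← pow_two, ← hcW, pow_orderOf_eq_one]
    have hc1 : (c : W) ≠ 1 := fun h => by rw [h, orderOf_one] at hcW; omega
    refine height x hxr hxo hx1 (fixEl ρ (c : W)) (fun u hu => apply_fixEl ρ (hCmem.mp c.2).symm hu) ?_
    have := (H.fixEl_involution hc2 hc1).1
    omega
  have hzC : Subgroup.zpowers z ≤ Subgroup.normalizer (C : Set W) := by
    refine Subgroup.zpowers_le.mpr (ZJ.mem_normalizer_of_conj_mem fun c hc => hCmem.mpr ?_)
    have hc' : c * x⁻¹ = x⁻¹ * c := (Commute.inv_right (hCmem.mp hc)).eq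
    calc z * c * z⁻¹ * x = z * (c * (z⁻¹ * x * z)) * z⁻¹ := by group
      _ = z * (c * x⁻¹) * z⁻¹ := by
        rw [inv_eq_of_mul_eq_one_right hz2]
        rw [inv_eq_of_mul_eq_one_right hz2] at hzx
        rw [hzx]
      _ = (z * x⁻¹ * z⁻¹) * (z * c * z⁻¹) := by rw [hc']; group
      _ = x * (z * c * z⁻¹) := by rw [← conj_inv, hzx, inv_inv]
  have hzord : orderOf z = 2 := orderOf_eq_prime (by rw [pow_two, hz2]) hz1
  obtain ⟨Y, hY⟩ := Coprime.exists_invariant_sylow hzC
    (by rw [Nat.card_zpowers, hzord]; exact Nat.coprime_two_left.mpr hCodd)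
    (Or.inl inferInstance) 7
  have h7 : 7 ∣ Nat.card C := by
    rcases card_eq_one_or_dvd_of_transitive ρ C (fun a b ha hb => by
      obtain ⟨c, hc, he⟩ := hctr x hxr hxo hx1 a b ha hb
      exact ⟨c, hCmem.mpr hc, he⟩) with h | h
    · rw [natCard_module (V := V), h6] at h; norm_num at h
    · rw [natCard_module (V := V), h6] at h
      exact (by norm_num : (7 : ℕ) ∣ 2 ^ 6 - 1).trans h
  haveI : Nontrivial (Y : Subgroup C) :=
    (Subgroup.nontrivial_iff_ne_bot _).mpr (Y.ne_bot_of_dvd_card h7)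
  haveI := Y.2.center_nontrivial
  obtain ⟨y₁, hy₁, hy₁o⟩ : ∃ y₁ : (Y : Subgroup C), y₁ ∈ Subgroup.center (Y : Subgroup C) ∧
      orderOf y₁ = 7 := by
    have h7' : 7 ∣ Nat.card (Subgroup.center (Y : Subgroup C)) := by
      obtain ⟨k, hk⟩ := IsPGroup.iff_card.mp (Y.2.to_subgroup (Subgroup.center (Y : Subgroup C)))
      rw [hk]
      refine dvd_pow_self 7 fun h0 => ?_
      rw [h0, pow_zero] at hk
      exact (Finite.one_lt_card (α := Subgroup.center (Y : Subgroup C))).ne' hk
    obtain ⟨y, hy⟩ := exists_prime_orderOf_dvd_card' 7 h7'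
    exact ⟨y, y.2, by rwa [Subgroup.orderOf_coe]⟩
  set a := ((y₁ : C) : W) with ha
  have haY : a ∈ (Y : Subgroup C).map C.subtype := ⟨y₁, y₁.2, rfl⟩
  have ha7 : orderOf a = 7 := by rw [ha, Subgroup.orderOf_coe, Subgroup.orderOf_coe, hy₁o]
  obtain ⟨b', hb'Y, hb'⟩ := (Subgroup.mem_normalizer_iff.mp (hY (Subgroup.mem_zpowers z)) a).mp haY
  set a' := z * a * z⁻¹ with ha'
  have hcomm : a * a' = a' * a := by
    have h := Subgroup.mem_center_iff.mp hy₁ ⟨b', hb'Y⟩
    rw [← hb']
    exact (congrArg (fun t : (Y : Subgroup C) => ((t : C) : W)) h).symm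
  obtain ⟨y, hyz, hyC, hy7⟩ : ∃ y : W, z * y = y * z ∧ y ∈ C ∧ orderOf y = 7 := by
    have haC : a ∈ C := (y₁ : C).2
    by_cases h1 : a * a' = 1
    · exfalso
      have hinv : a' = a⁻¹ := (inv_eq_of_mul_eq_one_right h1).symm
      have := hseven a ⟨z, hinv⟩ (by rw [← ha7]; exact pow_orderOf_eq_one a)
      rw [this, orderOf_one] at ha7
      omega
    · refine ⟨a * a', ?_, ?_, orderOf_eq_prime ?_ h1⟩
      · have hzi : z⁻¹ = z := inv_eq_of_mul_eq_one_right hz2
        have key : z * (a * a') * z⁻¹ = a' * a := by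
          calc z * (a * a') * z⁻¹ = (z * a * z⁻¹) * (z * a' * z⁻¹) := by group
            _ = a' * ((z * z) * a * (z * z)⁻¹) := by rw [ha']; group
            _ = a' * a := by rw [hz2]; group
        rw [← hcomm] at key
        exact mul_inv_eq_iff_eq_mul.mp key
      · exact mul_mem haC ((Subgroup.mem_normalizer_iff.mp (hzC (Subgroup.mem_zpowers z)) a).mp haC)
      · rw [(show Commute a a' from hcomm).mul_pow]
        have e : a ^ 7 = 1 := by rw [← ha7, pow_orderOf_eq_one]
        rw [e, ha', conj_pow, e]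
        group
  have hy1 : y ≠ 1 := fun h => by rw [h, orderOf_one] at hy7; omega
  have hy7' : y ^ 7 = 1 := by rw [← hy7, pow_orderOf_eq_one]
  -- `y` moves every non-zero vector
  have hyfpf : ∀ v, ρ y v = v → v = 0 := by
    intro v hv
    by_contra hv0
    have hU : ∀ u ∈ fixEl ρ y, ρ x u ∈ fixEl ρ y := fun u hu =>
      apply_fixEl ρ (hCmem.mp hyC).symm hu
    have h := card_modEq_fixEl ρ (p := 7) hy7' (U := ⊤) (fun _ _ => trivial)
    rw [top_inf_eq, natCard_submodule, natCard_submodule, finrank_top, h6] at h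
    have hle := Submodule.finrank_le (fixEl ρ y)
    have hpos : 0 < Module.finrank (ZMod 2) (fixEl ρ y) := by
      rw [Module.finrank_pos_iff]
      exact ⟨⟨⟨v, (mem_fixEl ρ).mpr hv⟩, 0, fun e => hv0 (congrArg Subtype.val e)⟩⟩
    have hne6 : Module.finrank (ZMod 2) (fixEl ρ y) ≠ 6 := fun e => hy1 (H.eq_one_of_fix fun u => by
      rw [← mem_fixEl, Submodule.eq_top_of_finrank_eq (e.trans h6.symm)]
      trivial)
    have hne3 := height x hxr hxo hx1 _ hU
    rw [h6] at hle
    generalize hk : Module.finrank (ZMod 2) (fixEl ρ y) = k at h hle hpos hne6 hne3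
    interval_cases k <;> simp [Nat.ModEq] at h hne3 hne6 ⊢
  -- the centralizer of `z` normalizes `S`
  set Cz := Subgroup.centralizer ({z} : Set W) with hCz
  have hSCz : (S : Subgroup W) ≤ Cz := fun s hs =>
    Subgroup.mem_centralizer_singleton_iff.mpr (hzc s hs)
  have hnormal : ((S.subtype hSCz : Sylow 2 Cz) : Subgroup Cz).Normal := by
    refine normal_sylow_two_of_forall (fun t htr hto => ?_) _
    by_contra ht1
    refine height (t : W) (htr.map Cz.subtype) (by rwa [Subgroup.orderOf_coe])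
      (fun h => ht1 (Subtype.ext h)) (fixEl ρ z)
      (fun u hu => apply_fixEl ρ (Subgroup.mem_centralizer_singleton_iff.mp t.2) hu) ?_
    have := (H.fixEl_involution hz2 hz1).1
    omega
  rw [Sylow.coe_subtype, Subgroup.normal_subgroupOf_iff_le_normalizer hSCz] at hnormal
  have hyS : y • S = S :=
    Sylow.smul_eq_iff_mem_normalizer.mpr (hnormal (Subgroup.mem_centralizer_singleton_iff.mpr hyz.symm))
  obtain ⟨u, hu0, hu⟩ : ∃ u : V, u ≠ 0 ∧ u ∈ fix ρ (S : Subgroup W) := by
    haveI : Nontrivial V := ⟨⟨v₀, 0, hv₀⟩⟩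
    have := H.finrank_fix_pos S
    rw [Module.finrank_pos_iff] at this
    obtain ⟨u, hu⟩ := exists_ne (0 : fix ρ (S : Subgroup W))
    exact ⟨u, fun h => hu (Subtype.ext h), u.2⟩
  refine hu0 (hyfpf u (huniq S _ _ (hyS ▸ TwoClosedStab.mem_fix_smul hu) hu ?_ hu0))
  exact fun h => hu0 (by rw [← apply_inv_apply ρ y u, h, map_zero])

end RealFree

end CfsgLib.RealClassGraph
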