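import Cfsg.Agent.Lib.RealClassGraph.Large
import Cfsg.Agent.Lib.RealClassGraph.Six
import Cfsg.Agent.Lib.RealClassGraph.Final
import Cfsg.Agent.Lib.NumberTheory.Zsigmondy

/-!
A linear group over `GF(2)` with free real elements is solvable.
-/

set_option autoImplicit false
set_option linter.style.haveILetI false

namespace CfsgLib.RealClassGraph

universe u v

variable {V : Type v} [AddCommGroup V] [Module (ZMod 2) V] [Finite V]

theorem realFree_solvable_aux : ∀ (n : ℕ) (W : Type u) [Group W] [Finite W]
    (ρ : W →* Module.End (ZMod 2) V), Nat.card W = n → RealFree ρ → Group.IsSolvable W := by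
  intro n
  induction n using Nat.strong_induction_on with
  | _ n ih =>
  intro W _ _ ρ hn H
  by_contra hns
  haveI : Fact (Nat.Prime 2) := ⟨Nat.prime_two⟩
  haveI : Nontrivial V := by
    rcases subsingleton_or_nontrivial V with hV | hV
    · exact absurd (isSolvable_of_comm fun a b => by
        rw [H.toTwoClosedStab.eq_one_of_fix (g := a) (fun _ => Subsingleton.elim _ _), one_mul,
          mul_one]) hns
    · exact hV
  obtain ⟨b, hb, hb1⟩ : ∃ b : W, b * b = 1 ∧ b ≠ 1 := by
    have h2 : 2 ∣ Nat.card W := by
      by_contra h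
      exact hns (solvable_of_odd (Nat.not_even_iff_odd.mp (fun e => h e.two_dvd)))
    obtain ⟨b, hb⟩ := exists_prime_orderOf_dvd_card' 2 h2
    have h := pow_orderOf_eq_one b
    rw [hb, pow_two] at h
    exact ⟨b, h, fun e => by rw [e, orderOf_one] at hb; omega⟩
  obtain ⟨hA, -⟩ := H.fixEl_involution hb hb1
  obtain ⟨S₀, hS₀⟩ := (ZJ.isPGroup_zpowers_of_pow (p := 2) (x := b)
    ⟨1, by rw [pow_one, pow_two, hb]⟩).exists_le_sylow
  set m := Module.finrank (ZMod 2) (fix ρ (S₀ : Subgroup W)) with hm
  have hmpos : 0 < m := H.finrank_fix_pos S₀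
  have hle : m ≤ Module.finrank (ZMod 2) (fixEl ρ b) :=
    Submodule.finrank_mono fun x hx =>
      (mem_fixEl ρ).mpr ((mem_fix ρ).mp hx b (hS₀ (Subgroup.mem_zpowers b)))
  rcases hle.eq_or_lt with heq | hlt
  · exact hns (solvable_of_fix_eq H S₀ (by omega))
  have hlt' : ∀ S : Sylow 2 W,
      2 * Module.finrank (ZMod 2) (fix ρ (S : Subgroup W)) < Module.finrank (ZMod 2) V := fun S => by
    rw [TwoClosedStab.finrank_fix_eq S S₀]; omega
  by_cases h6 : Module.finrank (ZMod 2) V = 6
  · haveI := Fintype.ofFinite (Sylow 2 W)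
    have hk := H.card_containing hb S₀
    rw [← hm, show Module.finrank (ZMod 2) (fixEl ρ b) = 3 by omega] at hk
    have hm1 : m = 1 := by
      have : m < 3 := by omega
      interval_cases m
      · rfl
      · omega
    exact H.no_six hns S₀ h6 hm1
  obtain ⟨r, hr, hdvd, hmin⟩ := NumberTheory.exists_primitive_prime (a := 2)
    (n := Module.finrank (ZMod 2) V) one_lt_two (by omega) (fun h => h6 h.2) (fun h => by omega)
  refine Counter.no_counter (r := r) ⟨H, ⟨hr, hdvd, hmin⟩, hns, fun N hN hfree => ?_⟩ h6 hlt'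
  exact ih (Nat.card N) (hn ▸ lt_of_le_of_ne (Subgroup.card_le_card_group N)
    (fun e => hN (Subgroup.eq_top_of_card_eq N e))) N (ρ.comp N.subtype) rfl hfree

/-- A finite linear group over `GF(2)` in which every vector stabilizer has a normal Sylow
`2`-subgroup of the group, and real elements of odd order act freely with transitive centralizers,
is solvable. -/
theorem realFree_solvable {W : Type u} [Group W] [Finite W] {ρ : W →* Module.End (ZMod 2) V}
    (H : RealFree ρ) : Group.IsSolvable W :=
  realFree_solvable_aux _ W ρ rfl H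

end CfsgLib.RealClassGraph
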