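import Cfsg.Agent.Lib.RealClassGraph.Stab

/-!
Orbit counting for elements of prime order and for transitive centralizers.
-/

set_option autoImplicit false
set_option linter.style.haveILetI false

namespace CfsgLib.RealClassGraph

universe u v

variable {W : Type u} [Group W] {V : Type v} [AddCommGroup V] [Module (ZMod 2) V] [Finite V]
  (ρ : W →* Module.End (ZMod 2) V)

theorem card_modEq_fixEl {p : ℕ} [Fact p.Prime] {g : W} (hg : g ^ p = 1)
    {U : Submodule (ZMod 2) V} (hU : ∀ x ∈ U, ρ g x ∈ U) :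
    Nat.card U ≡ Nat.card ↥(U ⊓ fixEl ρ g) [MOD p] := by
  classical
  haveI := Fintype.ofFinite U
  let f : Function.End U := fun x => ⟨ρ g x, hU x x.2⟩
  have hpow : ∀ (n : ℕ) (x : U), (((f ^ n) x : U) : V) = ρ (g ^ n) x := by
    intro n
    induction n with
    | zero => intro x; rw [pow_zero, pow_zero, map_one]; rfl
    | succ n ih =>
      intro x
      rw [pow_succ' f, pow_succ' g, apply_mul, ← ih]
      rfl
  have h := Equiv.Perm.card_fixedPoints_modEq (f := f) (p := p) (n := 1)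
    (funext fun x => Subtype.ext (by rw [hpow, pow_one, hg, map_one]; rfl))
  rw [Nat.card_eq_fintype_card]
  refine h.trans ?_
  rw [← Nat.card_eq_fintype_card]
  exact congrArg (· % p) <| Nat.card_congr
    { toFun := fun x => ⟨((x : U) : V), (x : U).2,
        (mem_fixEl ρ).mpr (congrArg Subtype.val (x.2 : f x.1 = x.1))⟩
      invFun := fun y => ⟨⟨(y : V), y.2.1⟩, Subtype.ext ((mem_fixEl ρ).mp y.2.2)⟩
      left_inv := fun x => rfl
      right_inv := fun y => rfl }

theorem prime_dvd_of_fpf {p : ℕ} [Fact p.Prime] {g : W} (hg : g ^ p = 1)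
    {U : Submodule (ZMod 2) V} (hU : ∀ x ∈ U, ρ g x ∈ U) (hfix : ∀ x ∈ U, ρ g x = x → x = 0) :
    p ∣ Nat.card U - 1 := by
  have h := card_modEq_fixEl ρ hg hU
  rw [show U ⊓ fixEl ρ g = ⊥ from (Submodule.eq_bot_iff _).mpr
    fun x hx => hfix x hx.1 ((mem_fixEl ρ).mp hx.2),
    Nat.card_unique (α := (⊥ : Submodule (ZMod 2) V))] at h
  exact (Nat.modEq_iff_dvd' Nat.card_pos).mp h.symm

theorem card_eq_one_or_dvd_of_transitive [Finite W] (C : Subgroup W)
    (htr : ∀ x y : V, x ≠ 0 → y ≠ 0 → ∃ c ∈ C, ρ c x = y) :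
    Nat.card V - 1 = 0 ∨ Nat.card V - 1 ∣ Nat.card C := by
  classical
  rcases subsingleton_or_nontrivial V with hV | hV
  · exact Or.inl (by rw [Nat.card_unique])
  refine Or.inr ?_
  have hne : ∀ (c : C) (x : {x : V // x ≠ 0}), ρ c (x : V) ≠ 0 := fun c x h => x.2 (by
    rw [← apply_inv_apply ρ (c : W) (x : V), h, map_zero])
  letI : MulAction C {x : V // x ≠ 0} :=
    { smul := fun c x => ⟨ρ c x, hne c x⟩
      one_smul := fun x => Subtype.ext (by show ρ 1 (x : V) = x; rw [map_one]; rfl)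
      mul_smul := fun a b x => Subtype.ext (apply_mul ρ _ _ _) }
  haveI : MulAction.IsPretransitive C {x : V // x ≠ 0} := ⟨fun x y => by
    obtain ⟨c, hc, he⟩ := htr x y x.2 y.2
    exact ⟨⟨c, hc⟩, Subtype.ext he⟩⟩
  obtain ⟨x₀, hx₀⟩ := exists_ne (0 : V)
  have h := MulAction.index_stabilizer_of_transitive C (⟨x₀, hx₀⟩ : {x : V // x ≠ 0})
  have hc : Nat.card {x : V // x ≠ 0} = Nat.card V - 1 := by
    haveI := Fintype.ofFinite V
    rw [Nat.card_eq_fintype_card, Nat.card_eq_fintype_card, Fintype.card_subtype_compl,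
      Fintype.card_subtype_eq]
  rw [← hc, ← h]
  exact Subgroup.index_dvd_card _

end CfsgLib.RealClassGraph
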