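import Cfsg.Agent.Lib.RealClassGraph.Irred
import Cfsg.Agent.Lib.BG.FixedLine.Basic
import Cfsg.Agent.Lib.Coprime.Action

/-!
Normal subgroups of a minimal non-solvable group with free real elements.
-/

set_option autoImplicit false
set_option linter.style.haveILetI false

open scoped commutatorElement

namespace CfsgLib.RealClassGraph

open CfsgLib.CentMaxNormal

universe u v

variable {W : Type u} [Group W] [Finite W] {V : Type v} [AddCommGroup V] [Module (ZMod 2) V]
  [Finite V] [Nontrivial V] {r : ℕ} {ρ : W →* Module.End (ZMod 2) V}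

omit [Finite V] [Nontrivial V] in
theorem mem_of_odd_index {N : Subgroup W} [N.Normal] (hN : Odd N.index) {u : W}
    (hu : ∃ k : ℕ, u ^ 2 ^ k = 1) : u ∈ N := by
  obtain ⟨k, hk⟩ := hu
  rw [← QuotientGroup.eq_one_iff, ← orderOf_eq_one_iff]
  refine Nat.eq_one_of_dvd_coprimes ((Nat.coprime_two_left.mpr hN).pow_left k) ?_ ?_
  · exact (orderOf_map_dvd (QuotientGroup.mk' N) u).trans (orderOf_dvd_of_pow_eq_one hk)
  · rw [Subgroup.index_eq_card]; exact orderOf_dvd_natCard _

/-- The data of a minimal counterexample. -/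
structure Counter (r : ℕ) (ρ : W →* Module.End (ZMod 2) V) : Prop extends RealFree ρ where
  primitive : Primitive V r
  notSolvable : ¬ Group.IsSolvable W
  minimal : ∀ N : Subgroup W, N ≠ ⊤ → RealFree (ρ.comp N.subtype) → Group.IsSolvable N

namespace Counter

variable (D₀ : Counter r ρ)
include D₀

theorem exists_real_odd : ∃ x : W, IsReal x ∧ Odd (orderOf x) ∧ x ≠ 1 := by
  by_contra h
  push Not at h
  haveI : Fact (Nat.Prime 2) := ⟨Nat.prime_two⟩
  obtain ⟨S⟩ : Nonempty (Sylow 2 W) := inferInstance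
  exact D₀.notSolvable (solvable_of_normal_sylow_two S (normal_sylow_two_of_forall h S))

theorem solvable_stab {x : V} (hx : x ≠ 0) : Group.IsSolvable (stab ρ x) := by
  obtain ⟨S, hS, hSn⟩ := D₀.sylow x hx
  exact solvable_of_le_normalizer S hS hSn

theorem not_dvd_stab {x : V} (hx : x ≠ 0) : ¬ r ∣ Nat.card (stab ρ x) := by
  haveI := Fact.mk D₀.primitive.prime
  intro h
  obtain ⟨c, hc⟩ := exists_prime_orderOf_dvd_card' r h
  exact hx (fpf_of_order D₀.primitive D₀.toTwoClosedStab ((Subgroup.orderOf_coe c).trans hc) c.2)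

theorem exists_sylow_cen_real {x : W} (hxr : IsReal x) (ho : Odd (orderOf x)) (hx1 : x ≠ 1) :
    ∃ P : Sylow r W, (P : Subgroup W) ≤ cen x := by
  classical
  haveI := Fact.mk D₀.primitive.prime
  obtain ⟨v, hv⟩ := exists_ne (0 : V)
  haveI : MulAction.IsPretransitive (stab ρ v) (W ⧸ cen x) := by
    refine ⟨fun a b => ?_⟩
    induction a using QuotientGroup.induction_on with
    | _ a =>
      induction b using QuotientGroup.induction_on with
      | _ b =>
        obtain ⟨τ, c, hτ, hc, he⟩ := D₀.factor' hxr ho hx1 hv b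
        obtain ⟨τ', c', hτ', hc', he'⟩ := D₀.factor' hxr ho hx1 hv a
        refine ⟨⟨τ * τ'⁻¹, mul_mem hτ (inv_mem hτ')⟩, ?_⟩
        show ((τ * τ'⁻¹ * a : W) : W ⧸ cen x) = b
        refine QuotientGroup.eq.mpr ?_
        rw [he, he', show (τ * τ'⁻¹ * (τ' * c'))⁻¹ * (τ * c) = c'⁻¹ * c by group]
        exact mul_mem (inv_mem (mem_cen.mpr hc')) (mem_cen.mpr hc)
  have hidx : ¬ r ∣ (cen x).index := by
    intro h
    apply D₀.not_dvd_stab hv
    rw [Subgroup.index_eq_card, ← MulAction.index_stabilizer_of_transitive (stab ρ v)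
      ((1 : W) : W ⧸ cen x)] at h
    exact h.trans (Subgroup.index_dvd_card _)
  obtain ⟨P, hP⟩ := ClassGraph.exists_sylow_le_cen (y := x) hidx
  exact ⟨P, hP⟩

theorem exists_mem_order (P : Sylow r W) : ∃ g ∈ (P : Subgroup W), orderOf g = r := by
  haveI := Fact.mk D₀.primitive.prime
  have h := dvd_card_of_not_solvable D₀.primitive D₀.toTwoClosedStab D₀.notSolvable
  have h' : r ^ 1 ∣ Nat.card (P : Subgroup W) := P.pow_dvd_card_of_pow_dvd_card (by rwa [pow_one])
  rw [pow_one] at h'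
  obtain ⟨g, hg⟩ := exists_prime_orderOf_dvd_card' r h'
  exact ⟨g, g.2, (Subgroup.orderOf_coe g).trans hg⟩

theorem exists_commuting {x : W} (hxr : IsReal x) (ho : Odd (orderOf x)) (hx1 : x ≠ 1) :
    ∃ g : W, orderOf g = r ∧ g * x = x * g := by
  obtain ⟨P, hP⟩ := D₀.exists_sylow_cen_real hxr ho hx1
  obtain ⟨g, hgP, hg⟩ := D₀.exists_mem_order P
  exact ⟨g, hg, mem_cen.mp (hP hgP)⟩

theorem exists_real_r : ∃ g : W, orderOf g = r ∧ IsReal g := by
  haveI := Fact.mk D₀.primitive.prime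
  obtain ⟨x, hxr, ho, hx1⟩ := D₀.exists_real_odd
  obtain ⟨P, hP⟩ := D₀.exists_sylow_cen_real hxr ho hx1
  obtain ⟨g₀, hgP, hg₀⟩ := D₀.exists_mem_order P
  obtain ⟨i, hi⟩ := hxr
  have hiC : ∀ c ∈ cen x, i * c * i⁻¹ ∈ cen x := fun c hc => by
    rw [mem_cen] at hc ⊢
    have hc' : c * x⁻¹ = x⁻¹ * c := (Commute.inv_right hc).eq
    have h' : i⁻¹ * x * i = x⁻¹ := by
      calc i⁻¹ * x * i = i⁻¹ * (i * x * i⁻¹)⁻¹ * i := by rw [hi, inv_inv]
        _ = x⁻¹ := by group
    calc i * c * i⁻¹ * x = i * (c * (i⁻¹ * x * i)) * i⁻¹ := by group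
      _ = i * (x⁻¹ * c) * i⁻¹ := by rw [h', hc']
      _ = (i * x * i⁻¹)⁻¹ * (i * c * i⁻¹) := by group
      _ = x * (i * c * i⁻¹) := by rw [hi, inv_inv]
  have hQle : ((i • P : Sylow r W) : Subgroup W) ≤ cen x := by
    rw [Sylow.coe_subgroup_smul]
    rintro _ ⟨p, hp, rfl⟩
    exact hiC p (hP hp)
  obtain ⟨c, hc⟩ := MulAction.exists_smul_eq (cen x) ((i • P).subtype hQle) (P.subtype hP)
  have hnorm : (c : W) * i ∈ Subgroup.normalizer ((P : Subgroup W) : Set W) := by
    refine Sylow.smul_eq_iff_mem_normalizer.mp ?_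
    rw [mul_smul]
    exact Sylow.subtype_injective ((Sylow.smul_subtype hQle c).symm.trans hc)
  have hinv : (c : W) * i * x * ((c : W) * i)⁻¹ = x⁻¹ := by
    have hcx : (c : W) * x⁻¹ = x⁻¹ * c := (Commute.inv_right (mem_cen.mp c.2)).eq
    rw [show (c : W) * i * x * ((c : W) * i)⁻¹ = c * (i * x * i⁻¹) * (c : W)⁻¹ by group, hi, hcx,
      mul_inv_cancel_right]
  obtain ⟨u, hu, ⟨k, hk⟩, hux⟩ := ZJ.exists_two_inverter hinv
  have hnc : u ∉ Subgroup.centralizer ((P : Subgroup W) : Set W) := by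
    intro huc
    have hug : u ∈ cen g₀ := mem_cen.mpr (Subgroup.mem_centralizer_iff.mp huc g₀ hgP).symm
    have hxg : x ∈ cen g₀ := mem_cen_comm.mp (hP hgP)
    have hcm := cen_comm D₀.primitive D₀.toTwoClosedStab hg₀ hug hxg
    refine hx1 (eq_one_of_odd_of_eq_inv ho ?_)
    rw [← hux, hcm, mul_inv_cancel_right]
  obtain ⟨h, hhP, t, -, hh1, hth⟩ := ZJ.exists_inverted_of_not_centralize k u hk
    (Subgroup.zpowers_le.mpr hnorm hu) hnc
  obtain ⟨j, hj⟩ := P.2 ⟨h, hhP⟩
  obtain ⟨e, -, he⟩ := (Nat.dvd_prime_pow D₀.primitive.prime).mp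
    (orderOf_dvd_of_pow_eq_one (congrArg Subtype.val hj : h ^ r ^ j = 1))
  have he0 : e ≠ 0 := fun e0 => hh1 (orderOf_eq_one_iff.mp (by rw [he, e0, pow_zero]))
  refine ⟨h ^ r ^ (e - 1), ?_, IsReal.pow ⟨t, hth⟩ _⟩
  rw [orderOf_pow' _ (pow_ne_zero _ D₀.primitive.prime.ne_zero), he,
    Nat.gcd_eq_right (pow_dvd_pow r (Nat.sub_le e 1)), Nat.pow_div (Nat.sub_le e 1)
      D₀.primitive.prime.pos, show e - (e - 1) = 1 by omega, pow_one]

theorem factor_cen {g : W} (hg : orderOf g = r) {v : V} (hv : v ≠ 0) (w : W) :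
    ∃ c τ : W, c ∈ cen g ∧ τ ∈ stab ρ v ∧ w = c * τ := by
  obtain ⟨g₀, hg₀, hr₀⟩ := D₀.exists_real_r
  obtain ⟨a, ha⟩ := exists_conj_commute D₀.primitive D₀.toTwoClosedStab hg₀ hg
  have ho : orderOf (a * g₀ * a⁻¹) = r := by
    rw [← hg₀]; exact orderOf_injective (MulAut.conj a).toMonoidHom (MulAut.conj a).injective g₀
  obtain ⟨x, hx⟩ := exists_ne (0 : V)
  have hodd : Odd r := by
    rcases D₀.primitive.prime.eq_two_or_odd' with h2 | h2
    · exfalso
      have h := D₀.primitive.dvd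
      rw [h2] at h
      have hpos : 0 < Module.finrank (ZMod 2) V := Module.finrank_pos
      have he : 2 ∣ 2 ^ Module.finrank (ZMod 2) V := dvd_pow_self 2 hpos.ne'
      have := Nat.one_le_two_pow (n := Module.finrank (ZMod 2) V)
      omega
    · exact h2
  obtain ⟨c, τ, hc, hτ, he⟩ := (D₀.real _ (isReal_conj hr₀ a) (ho ▸ hodd) (fun h => by
    rw [h, orderOf_one] at ho
    exact D₀.primitive.prime.one_lt.ne ho) v hv).2 w
  exact ⟨c, τ, ha ▸ mem_cen.mpr hc, hτ, he⟩

theorem solvable_of_mul (L : Subgroup W) [L.Normal] (hL : Group.IsSolvable L)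
    {v : V}
    (hv : v ≠ 0) (hvw : ∀ w : W, ∃ c τ : W, c ∈ L ∧ τ ∈ stab ρ v ∧ w = c * τ) : False := by
  haveI := D₀.solvable_stab hv
  refine D₀.notSolvable (solvable_of_normal L hL (Group.isSolvable_of_surjective
    (f := (QuotientGroup.mk' L).comp (stab ρ v).subtype) fun q => ?_))
  obtain ⟨w, rfl⟩ := QuotientGroup.mk'_surjective L q
  obtain ⟨c, τ, hc, hτ, rfl⟩ := hvw w
  refine ⟨⟨τ, hτ⟩, ?_⟩
  show ((τ : W) : W ⧸ L) = ((c * τ : W) : W ⧸ L)
  rw [QuotientGroup.mk_mul, (QuotientGroup.eq_one_iff c).mpr hc, one_mul]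

theorem false_of_solvable_cen_le {g : W} (hg : orderOf g = r) (L : Subgroup W) [L.Normal]
    (hle : cen g ≤ L) (hL : Group.IsSolvable L) : False := by
  obtain ⟨v, hv⟩ := exists_ne (0 : V)
  have h : ∀ w : W, ∃ c τ : W, c ∈ L ∧ τ ∈ stab ρ v ∧ w = c * τ := fun w => by
    obtain ⟨c, τ, hc, hτ, he⟩ := D₀.factor_cen hg hv w
    exact ⟨c, τ, hle hc, hτ, he⟩
  exact D₀.solvable_of_mul L hL hv h

theorem nonsolvable_normal (N : Subgroup W) [N.Normal] (hN : ¬ Group.IsSolvable N) :
    Odd N.index ∧ ∃ g ∈ N, orderOf g = r ∧ N ⊔ cen g = ⊤ := by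
  haveI := Fact.mk D₀.primitive.prime
  have hr' : Primitive V r := D₀.primitive
  have hrN : r ∣ Nat.card N :=
    dvd_card_of_not_solvable hr' (TwoClosedStab.restrict D₀.toTwoClosedStab N) hN
  obtain ⟨g₁, hg₁⟩ := exists_prime_orderOf_dvd_card' r hrN
  have hg : orderOf (g₁ : W) = r := (Subgroup.orderOf_coe g₁).trans hg₁
  have htop : N ⊔ cen (g₁ : W) = ⊤ := by
    by_contra hne
    have hconj : ∀ w : W, ∀ c ∈ cen (g₁ : W), w * c * w⁻¹ ∈ N ⊔ cen (g₁ : W) := by
      intro w c hc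
      let g₂ : N := ⟨w * g₁ * w⁻¹, Subgroup.Normal.conj_mem inferInstance _ g₁.2 w⟩
      have hg₂W : orderOf (g₂ : W) = r := by
        rw [← hg]
        exact orderOf_injective (MulAut.conj w).toMonoidHom (MulAut.conj w).injective (g₁ : W)
      obtain ⟨n, hn⟩ := exists_conj_commute hr' (TwoClosedStab.restrict D₀.toTwoClosedStab N)
        hg₁ ((Subgroup.orderOf_coe g₂).symm.trans hg₂W)
      have hn' : n * g₁ * n⁻¹ ∈ cen g₂ := hn ▸ self_mem_cen _
      have hcomm : ((n : W) * g₁ * (n : W)⁻¹) * (g₂ : W) = (g₂ : W) * ((n : W) * g₁ * (n : W)⁻¹) :=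
        congrArg Subtype.val (mem_cen.mp hn')
      have hno : orderOf ((n : W) * g₁ * (n : W)⁻¹) = r := by
        rw [← hg]
        exact orderOf_injective (MulAut.conj (n : W)).toMonoidHom (MulAut.conj _).injective (g₁ : W)
      have he := cen_eq hr' D₀.toTwoClosedStab hno hg₂W hcomm
      have hmem : w * c * w⁻¹ ∈ cen (g₂ : W) :=
        TwoClassSizes.mem_cen_conj.mpr (by simpa [mul_assoc] using hc)
      rw [← he] at hmem
      have := TwoClassSizes.mem_cen_conj.mp hmem
      have hN' : (n : W) ∈ N ⊔ cen (g₁ : W) := Subgroup.mem_sup_left n.2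
      have := mul_mem (mul_mem hN' (Subgroup.mem_sup_right this)) (inv_mem hN')
      simpa [mul_assoc] using this
    haveI : (N ⊔ cen (g₁ : W)).Normal := ⟨fun x hx w => by
      obtain ⟨n, hn, c, hc, rfl⟩ := Subgroup.mem_sup_of_normal_left.mp hx
      rw [show w * (n * c) * w⁻¹ = (w * n * w⁻¹) * (w * c * w⁻¹) by group]
      exact mul_mem (Subgroup.mem_sup_left (Subgroup.Normal.conj_mem inferInstance n hn w))
        (hconj w c hc)⟩
    have hfree : RealFree (ρ.comp (N ⊔ cen (g₁ : W)).subtype) :=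
      { TwoClosedStab.restrict D₀.toTwoClosedStab (N ⊔ cen (g₁ : W)) with
        real := fun x hxr ho hx1 v hv => by
          have hxr' : IsReal (x : W) := hxr.map (N ⊔ cen (g₁ : W)).subtype
          have ho' : Odd (orderOf (x : W)) := (Subgroup.orderOf_coe x).symm ▸ ho
          have hx1' : (x : W) ≠ 1 := fun h => hx1 (Subtype.ext h)
          refine ⟨(D₀.real _ hxr' ho' hx1' v hv).1, fun w => ?_⟩
          obtain ⟨g, hgo, hgx⟩ := D₀.exists_commuting hxr' ho' hx1'
          obtain ⟨c, τ, hc, hτ, he⟩ := D₀.factor_cen hgo hv (w : W)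
          obtain ⟨a, ha⟩ := exists_conj_commute hr' D₀.toTwoClosedStab hg hgo
          have hcN : c ∈ N ⊔ cen (g₁ : W) := by
            rw [← ha, TwoClassSizes.mem_cen_conj] at hc
            have := Subgroup.Normal.conj_mem (H := N ⊔ cen (g₁ : W)) inferInstance _
              (Subgroup.mem_sup_right hc) a
            simpa [mul_assoc] using this
          have hτN : τ ∈ N ⊔ cen (g₁ : W) := by
            rw [show τ = c⁻¹ * (w : W) by rw [he, inv_mul_cancel_left]]
            exact mul_mem (inv_mem hcN) w.2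
          exact ⟨⟨c, hcN⟩, ⟨τ, hτN⟩, Subtype.ext (cen_comm hr' D₀.toTwoClosedStab hgo hc
            (mem_cen.mpr hgx.symm)), hτ, Subtype.ext he⟩ }
    have hsol := D₀.minimal _ hne hfree
    exact hN (Coprime.isSolvable_of_le le_sup_left hsol)
  refine ⟨?_, (g₁ : W), g₁.2, hg, htop⟩
  rw [← Subgroup.relIndex_top_right, ← htop, sup_comm, Subgroup.relIndex_sup_right]
  exact (cen_odd hr' D₀.toTwoClosedStab hg).of_dvd_nat (Subgroup.index_dvd_card _)

theorem no_central_involution {z : W} (hz : z * z = 1) (hc : ∀ w, w * z = z * w) : z = 1 := by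
  haveI : (Subgroup.zpowers z).Normal := ⟨fun y hy w => by
    obtain ⟨i, rfl⟩ := Subgroup.mem_zpowers_iff.mp hy
    rw [((show Commute w z from hc w).zpow_right i).eq, mul_inv_cancel_right]
    exact hy⟩
  have := D₀.core_eq_bot (N := Subgroup.zpowers z)
    (ZJ.isPGroup_zpowers_of_pow (p := 2) ⟨1, by rw [pow_one, pow_two, hz]⟩)
  exact Subgroup.zpowers_eq_bot.mp this

theorem no_central_r {z : W} (hz : orderOf z = r) (hc : ∀ w, w * z = z * w) : False := by
  refine D₀.notSolvable (isSolvable_of_comm fun a b => ?_)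
  exact cen_comm D₀.primitive D₀.toTwoClosedStab hz (mem_cen.mpr (hc a)) (mem_cen.mpr (hc b))

theorem abelian_central (B : Subgroup W) [B.Normal] (hB : ∀ a ∈ B, ∀ b ∈ B, a * b = b * a) :
    ∀ b ∈ B, ∀ w : W, w * b = b * w := by
  haveI := Fact.mk D₀.primitive.prime
  haveI : Fact (Nat.Prime 2) := ⟨Nat.prime_two⟩
  have hodd : ¬ 2 ∣ Nat.card B := by
    intro h2
    obtain ⟨i, hi⟩ := exists_prime_orderOf_dvd_card' 2 h2
    let E : Subgroup W :=
      { carrier := {b | b ∈ B ∧ b * b = 1}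
        one_mem' := ⟨one_mem B, one_mul 1⟩
        mul_mem' := by
          rintro a b ⟨ha, ha2⟩ ⟨hb, hb2⟩
          refine ⟨mul_mem ha hb, ?_⟩
          rw [mul_assoc, ← mul_assoc b, ← hB a ha b hb, mul_assoc a b b, hb2, mul_one, ha2]
        inv_mem' := by
          rintro a ⟨ha, ha2⟩
          exact ⟨inv_mem ha, by rw [← mul_inv_rev, ha2, inv_one]⟩ }
    haveI : E.Normal := ⟨fun e he w => ⟨Subgroup.Normal.conj_mem inferInstance e he.1 w, by
      rw [show w * e * w⁻¹ * (w * e * w⁻¹) = w * (e * e) * w⁻¹ by group, he.2]; group⟩⟩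
    have hbot := D₀.core_eq_bot (N := E) (fun e => ⟨1, Subtype.ext (by
      show (e : W) ^ 2 ^ 1 = 1
      rw [pow_one, pow_two]; exact e.2.2)⟩)
    have hiE : (i : W) ∈ E := ⟨i.2, by
      rw [← pow_two, ← hi, ← Subgroup.orderOf_coe, pow_orderOf_eq_one]⟩
    rw [hbot, Subgroup.mem_bot] at hiE
    rw [← Subgroup.orderOf_coe, hiE, orderOf_one] at hi
    omega
  have hrB : ¬ r ∣ Nat.card B := by
    intro h
    obtain ⟨g, hg⟩ := exists_prime_orderOf_dvd_card' r h
    have hgW : orderOf (g : W) = r := (Subgroup.orderOf_coe g).trans hg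
    haveI : (cen (g : W)).Normal := ⟨fun c hc w => by
      have hgB : w * g * w⁻¹ ∈ B := Subgroup.Normal.conj_mem inferInstance _ g.2 w
      have ho : orderOf (w * (g : W) * w⁻¹) = r := by
        rw [← hgW]
        exact orderOf_injective (MulAut.conj w).toMonoidHom (MulAut.conj w).injective (g : W)
      rw [cen_eq D₀.primitive D₀.toTwoClosedStab hgW ho (hB _ g.2 _ hgB)]
      exact TwoClassSizes.mem_cen_conj.mpr (by simpa [mul_assoc] using hc)⟩
    exact D₀.false_of_solvable_cen_le hgW _ le_rfl (cen_solvable D₀.primitive D₀.toTwoClosedStab hgW)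
  have hcomm : ∀ g : W, orderOf g = r → ∀ b ∈ B, g * b = b * g := by
    intro g hg b hb
    let φ : B →* W :=
      { toFun := fun b => g * (b : W) * g⁻¹ * (b : W)⁻¹
        map_one' := by simp
        map_mul' := fun a c => by
          have h1 : g * (c : W) * g⁻¹ * (c : W)⁻¹ ∈ B :=
            mul_mem (Subgroup.Normal.conj_mem inferInstance _ c.2 g) (inv_mem c.2)
          rw [Subgroup.coe_mul]
          calc g * ((a : W) * c) * g⁻¹ * ((a : W) * c)⁻¹
              = (g * (a : W) * g⁻¹) * ((g * (c : W) * g⁻¹ * (c : W)⁻¹) * (a : W)⁻¹) := by group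
            _ = _ := by rw [← hB _ (inv_mem a.2) _ h1]; group }
    have hφB : φ.range ≤ B := by
      rintro _ ⟨c, rfl⟩
      exact mul_mem (Subgroup.Normal.conj_mem inferInstance _ c.2 g) (inv_mem c.2)
    have hgU : ∀ u ∈ φ.range, g * u * g⁻¹ ∈ φ.range := by
      rintro _ ⟨c, rfl⟩
      refine ⟨⟨g * c * g⁻¹, Subgroup.Normal.conj_mem inferInstance _ c.2 g⟩, ?_⟩
      show g * (g * c * g⁻¹) * g⁻¹ * (g * c * g⁻¹)⁻¹ = g * (g * c * g⁻¹ * (c : W)⁻¹) * g⁻¹
      group
    have hcard : (Nat.card φ.range : ZMod 2) ≠ 0 := by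
      rw [Ne, ZMod.natCast_eq_zero_iff]
      exact fun h => hodd (h.trans (Subgroup.card_dvd_of_le hφB))
    have hfix : ∀ u ∈ φ.range, g * u = u * g → u = 1 := by
      rintro _ ⟨c, rfl⟩ hu
      set u := φ c with hu'
      have hgc : g * (c : W) * g⁻¹ = u * c := by
        show _ = g * (c : W) * g⁻¹ * (c : W)⁻¹ * c
        group
      have hiter : ∀ n : ℕ, g ^ n * (c : W) * (g ^ n)⁻¹ = u ^ n * c := by
        intro n
        induction n with
        | zero => simp
        | succ n ih =>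
          rw [pow_succ' g, show g * g ^ n * (c : W) * (g * g ^ n)⁻¹ =
            g * (g ^ n * (c : W) * (g ^ n)⁻¹) * g⁻¹ by group, ih,
            show g * (u ^ n * (c : W)) * g⁻¹ = (g * u ^ n * g⁻¹) * (g * (c : W) * g⁻¹) by group,
            hgc, ((show Commute g u from hu).pow_right n).eq, mul_inv_cancel_right, pow_succ,
            mul_assoc]
      have h1 := hiter r
      have hgr : g ^ r = 1 := by rw [← hg, pow_orderOf_eq_one]
      rw [hgr] at h1
      have hur : u ^ r = 1 := mul_right_cancel (b := (c : W)) (by rw [← h1]; group)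
      by_contra hu1
      apply hrB
      have hd := orderOf_dvd_natCard (⟨u, hφB ⟨c, rfl⟩⟩ : B)
      rwa [Subgroup.orderOf_mk, orderOf_eq_prime hur hu1] at hd
    have h := BG.FixedLine.eq_one_of_fpf (K := ZMod 2) (ρ := ρ) D₀.primitive.prime
      (by rw [← hg, pow_orderOf_eq_one]) hgU hcard hfix
      (fun v hv => fpf_of_order D₀.primitive D₀.toTwoClosedStab hg hv) _ ⟨⟨b, hb⟩, rfl⟩
    have h1 : g * b * g⁻¹ * b⁻¹ = 1 := D₀.inj (by rw [map_one]; exact h)
    exact mul_inv_eq_iff_eq_mul.mp (mul_inv_eq_one.mp h1)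
  set L := Subgroup.centralizer (B : Set W) with hL
  have hle : ∀ g : W, orderOf g = r → cen g ≤ L := by
    intro g hg c hc
    refine Subgroup.mem_centralizer_iff.mpr fun b hb => ?_
    exact cen_comm D₀.primitive D₀.toTwoClosedStab hg (mem_cen.mpr (hcomm g hg b hb).symm) hc
  obtain ⟨g₀, hg₀, -⟩ := D₀.exists_real_r
  by_cases hsol : Group.IsSolvable L
  · exact absurd (D₀.false_of_solvable_cen_le hg₀ L (hle g₀ hg₀) hsol) (fun h => h.elim)
  · obtain ⟨-, g, -, hg, htop⟩ := D₀.nonsolvable_normal L hsol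
    intro b hb w
    have hw : w ∈ L := by
      rw [← sup_eq_left.mpr (hle g hg), htop]
      trivial
    exact (Subgroup.mem_centralizer_iff.mp hw b hb).symm

theorem class_two (D : Subgroup W) [D.Normal]
    (hD : ∀ a ∈ D, ∀ b ∈ D, ∀ w : W, w * ⁅a, b⁆ = ⁅a, b⁆ * w) (hsol : Group.IsSolvable D) :
    ∀ a ∈ D, ∀ b ∈ D, a * b = b * a := by
  haveI := Fact.mk D₀.primitive.prime
  haveI : Fact (Nat.Prime 2) := ⟨Nat.prime_two⟩
  let Z : Subgroup W := D ⊓ Subgroup.centralizer (D : Set W)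
  have hZc := D₀.abelian_central Z (fun a ha b hb =>
    Subgroup.mem_centralizer_iff.mp hb.2 a ha.1)
  have hmoved : ∀ (p : ℕ) (i : W), i ∈ D → i ^ p = 1 → ∀ j ∈ D, ⁅i, j⁆ ^ p = 1 := by
    intro p i hi hip j hj
    have hz := hD i hi j hj
    have hiter : ∀ n : ℕ, i ^ n * j * (i ^ n)⁻¹ = ⁅i, j⁆ ^ n * j := by
      intro n
      induction n with
      | zero => simp
      | succ n ih =>
        rw [pow_succ' i, show i * i ^ n * j * (i * i ^ n)⁻¹ = i * (i ^ n * j * (i ^ n)⁻¹) * i⁻¹ by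
          group, ih, show i * (⁅i, j⁆ ^ n * j) * i⁻¹ = (i * ⁅i, j⁆ ^ n * i⁻¹) * (i * j * i⁻¹) by
          group, ((show Commute i ⁅i, j⁆ from hz i).pow_right n).eq, mul_inv_cancel_right, pow_succ,
          mul_assoc (⁅i, j⁆ ^ n) ⁅i, j⁆]
        congr 1
        rw [commutatorElement_def]; group
    have := hiter p
    rw [hip] at this
    exact mul_right_cancel (b := j) (by rw [← this]; group)
  have hsmall : ∀ p : ℕ, p.Prime → (∀ z : W, z ^ p = 1 → (∀ w, w * z = z * w) → z = 1) →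
      ¬ p ∣ Nat.card D := by
    intro p hp hno hdvd
    haveI := Fact.mk hp
    obtain ⟨i, hi⟩ := exists_prime_orderOf_dvd_card' p hdvd
    have hip : (i : W) ^ p = 1 := by
      rw [← hi, ← Subgroup.orderOf_coe, pow_orderOf_eq_one]
    have hiZ : (i : W) ∈ Z := ⟨i.2, Subgroup.mem_centralizer_iff.mpr fun j hj => by
      have := hno _ (hmoved p i i.2 hip j hj) (hD _ i.2 j hj)
      exact (commutatorElement_eq_one_iff_mul_comm.mp this).symm⟩
    have := hno _ hip (hZc _ hiZ)
    rw [← Subgroup.orderOf_coe, this, orderOf_one] at hi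
    exact hp.one_lt.ne hi
  have hodd := hsmall 2 Nat.prime_two (fun z hz hc => D₀.no_central_involution (by rw [← pow_two, hz]) hc)
  have hrD := hsmall r D₀.primitive.prime (fun z hz hc => by
    by_contra hz1
    exact D₀.no_central_r (orderOf_eq_prime hz hz1) hc)
  have hodd' : ∀ d ∈ D, Odd (orderOf d) := fun d hd => by
    refine (Nat.not_even_iff_odd.mp fun h => hodd ?_ : Odd (Nat.card D)).of_dvd_nat ?_
    · exact even_iff_two_dvd.mp h
    · have := orderOf_dvd_natCard (⟨d, hd⟩ : D)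
      rwa [Subgroup.orderOf_mk] at this
  -- no element of `D` is inverted
  have hnoreal : ∀ f ∈ D, IsReal f → f = 1 := by
    intro f hf hfr
    by_contra hf1
    obtain ⟨g, hg, hgf⟩ := D₀.exists_commuting hfr (hodd' f hf) hf1
    have hfZ : f ∈ Z := by
      refine ⟨hf, Subgroup.mem_centralizer_iff.mpr fun d hd => ?_⟩
      have hcop : (Nat.card (Subgroup.zpowers g)).Coprime (Nat.card D) := by
        rw [Nat.card_zpowers, hg]; exact D₀.primitive.prime.coprime_iff_not_dvd.mpr hrD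
      have hA : Subgroup.zpowers g ≤ cen f :=
        Subgroup.zpowers_le.mpr (mem_cen.mpr hgf)
      have hAN : Subgroup.zpowers g ≤ Subgroup.normalizer ((D ⊓ cen f : Subgroup W) : Set W) := by
        intro a ha
        refine ZJ.mem_normalizer_of_conj_mem fun y hy => Subgroup.mem_inf.mpr
          ⟨Subgroup.Normal.conj_mem inferInstance _ (Subgroup.mem_inf.mp hy).1 a, ?_⟩
        exact mul_mem (mul_mem (hA ha) (Subgroup.mem_inf.mp hy).2) (inv_mem (hA ha))
      obtain ⟨c, hc, hdc⟩ := Coprime.exists_centralizer_mem_coset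
        (Subgroup.le_normalizer_of_normal (H := D) (K := Subgroup.zpowers g)) hcop
        (Or.inl inferInstance) (inf_le_left : D ⊓ cen f ≤ D) hAN hd (fun a ha => by
          refine Subgroup.mem_inf.mpr ⟨mul_mem (inv_mem hd)
            (Subgroup.Normal.conj_mem inferInstance d hd a), mem_cen.mpr ?_⟩
          have haf : a * f = f * a := mem_cen.mp (hA ha)
          have hz := hD d hd f hf a
          have hconj : a * d * a⁻¹ * f * (a * d * a⁻¹)⁻¹ = d * f * d⁻¹ := by
            calc a * d * a⁻¹ * f * (a * d * a⁻¹)⁻¹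
                = a * d * (a⁻¹ * (f * a)) * d⁻¹ * a⁻¹ := by group
              _ = a * d * (a⁻¹ * (a * f)) * d⁻¹ * a⁻¹ := by rw [haf]
              _ = (a * ⁅d, f⁆) * (f * a⁻¹) := by rw [commutatorElement_def]; group
              _ = ⁅d, f⁆ * ((a * f) * a⁻¹) := by rw [hz]; group
              _ = ⁅d, f⁆ * f := by rw [haf, mul_inv_cancel_right]
              _ = d * f * d⁻¹ := by rw [commutatorElement_def]; group
          calc d⁻¹ * (a * d * a⁻¹) * f
              = d⁻¹ * (a * d * a⁻¹ * f * (a * d * a⁻¹)⁻¹) * (a * d * a⁻¹) := by group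
            _ = f * (d⁻¹ * (a * d * a⁻¹)) := by rw [hconj]; group)
      obtain ⟨hcD, hcg⟩ := Subgroup.mem_inf.mp hc
      have hcf : c * f = f * c :=
        cen_comm D₀.primitive D₀.toTwoClosedStab hg
          (mem_cen.mpr ((Subgroup.mem_centralizer_iff.mp hcg g (Subgroup.mem_zpowers g)).symm))
          (mem_cen.mpr hgf.symm)
      have h1 : d⁻¹ * c ∈ cen f := hdc.2
      have : d ∈ cen f := by
        rw [show d = c * (d⁻¹ * c)⁻¹ by group]
        exact mul_mem (mem_cen.mpr hcf) (inv_mem h1)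
      exact mem_cen.mp this
    obtain ⟨i, hi⟩ := hfr
    have hcz := hZc f hfZ i
    exact hf1 (eq_one_of_odd_of_eq_inv (hodd' f hf) (by rw [← hi, hcz, mul_inv_cancel_right]))
  have hcent : ∀ u : W, (∃ k : ℕ, u ^ 2 ^ k = 1) → u ∈ Subgroup.centralizer (D : Set W) := by
    intro u ⟨k, hk⟩
    by_contra hu
    obtain ⟨x, hx, t, -, hx1, ht⟩ := ZJ.exists_inverted_of_not_centralize k u hk
      (Subgroup.le_normalizer_of_normal (H := D) (K := ⊤) trivial) hu
    exact hx1 (hnoreal x hx ⟨t, ht⟩)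
  set L := Subgroup.centralizer (D : Set W) with hL
  have hLns : ¬ Group.IsSolvable L := by
    intro hLs
    refine D₀.notSolvable (solvable_of_normal L hLs (solvable_of_odd ?_))
    obtain ⟨S⟩ : Nonempty (Sylow 2 W) := inferInstance
    rw [← Subgroup.index_eq_card, ← Nat.not_even_iff_odd, even_iff_two_dvd]
    intro h2
    refine S.not_dvd_index (h2.trans (Subgroup.index_dvd_of_le fun s hs => ?_))
    obtain ⟨k, hk⟩ := S.2 ⟨s, hs⟩
    exact hcent s ⟨k, congrArg Subtype.val hk⟩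
  obtain ⟨-, g, hgL, hg, -⟩ := D₀.nonsolvable_normal L hLns
  intro a ha b hb
  exact cen_comm D₀.primitive D₀.toTwoClosedStab hg
    (mem_cen.mpr (Subgroup.mem_centralizer_iff.mp hgL a ha))
    (mem_cen.mpr (Subgroup.mem_centralizer_iff.mp hgL b hb))

theorem solvable_central (D : Subgroup W) [D.Normal] (hsol : Group.IsSolvable D) :
    ∀ d ∈ D, ∀ w : W, w * d = d * w := by
  obtain ⟨n, hn⟩ := (Group.isSolvable_def D).mp hsol
  have key : ∀ j k, k + j = n → ∀ d ∈ (derivedSeries D k).map D.subtype, ∀ w : W,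
      w * d = d * w := by
    intro j
    induction j with
    | zero =>
      intro k hk d hd w
      rw [add_zero] at hk
      rw [hk, hn, Subgroup.map_bot, Subgroup.mem_bot] at hd
      rw [hd, mul_one, one_mul]
    | succ j ih =>
      intro k hk
      haveI := derivedSeries_characteristic D k
      haveI : ((derivedSeries D k).map D.subtype).Normal := ConjAct.normal_of_characteristic_of_normal
      set E := (derivedSeries D k).map D.subtype with hE
      have hc2 : ∀ a ∈ E, ∀ b ∈ E, ∀ w : W, w * ⁅a, b⁆ = ⁅a, b⁆ * w := fun a ha b hb => by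
        refine ih (k + 1) (by omega) _ ?_
        rw [derivedSeries_succ, Subgroup.map_commutator]
        exact Subgroup.commutator_mem_commutator ha hb
      exact D₀.abelian_central E (D₀.class_two E hc2
        (Coprime.isSolvable_of_le (Subgroup.map_subtype_le _) hsol))
  intro d hd w
  refine key n 0 (zero_add n) d ?_ w
  rw [derivedSeries_zero]
  exact ⟨⟨d, hd⟩, trivial, rfl⟩

end Counter

end CfsgLib.RealClassGraph
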