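import Cfsg.Agent.Lib.RealClassGraph.Module
import Cfsg.Agent.Lib.RealClassGraph.ConjModule
import Cfsg.Agent.Lib.Fitting.Basic
import Cfsg.Agent.Lib.Baer.Basic
import Cfsg.Agent.Lib.ClassSize.PPrime

/-!
Groups in which the real class sizes split along a set of odd primes are solvable.
-/

set_option autoImplicit false
set_option linter.style.haveILetI false

namespace CfsgLib.RealClassGraph

open CfsgLib.CentMaxNormal

universe u

/-- No prime of `π` divides the class size. -/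
def Free (π : Set ℕ) {G : Type u} [Group G] (x : G) : Prop :=
  ∀ q : ℕ, q.Prime → q ∈ π → ¬ q ∣ (cen x).index

/-- A real class size with a prime in `π` is a `π`-number, and one such exists; `2 ∉ π`. -/
structure Split (π : Set ℕ) (G : Type u) [Group G] : Prop where
  two : 2 ∉ π
  closed : ∀ x : G, IsReal x → ¬ Free π x → ∀ p : ℕ, p.Prime → p ∣ (cen x).index → p ∈ π
  nonempty : ∃ t : G, IsReal t ∧ ¬ Free π t

namespace Split

variable {π : Set ℕ} {G : Type u} [Group G] [Finite G] (h : Split π G)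
include h

theorem sq_eq_one {x : G} (hx : IsReal x) (hf : ¬ Free π x) : x * x = 1 := by
  by_contra hne
  exact h.two (h.closed x hx hf 2 Nat.prime_two
    (two_dvd_index hx fun e => hne (by nth_rewrite 2 [e]; exact mul_inv_cancel x)))

theorem free_of_sq_ne {x : G} (hx : IsReal x) (hne : x * x ≠ 1) : Free π x := by
  by_contra hf
  exact hne (h.sq_eq_one hx hf)

theorem coprime {v t : G} (hv : Free π v) (ht : IsReal t) (htf : ¬ Free π t) :
    (cen v).index.Coprime (cen t).index :=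
  Nat.coprime_of_dvd fun p hp hpv hpt => hv p hp (h.closed t ht htf p hp hpt) hpv

theorem odd_index {t : G} (ht : IsReal t) (htf : ¬ Free π t) : Odd (cen t).index := by
  rw [← Nat.not_even_iff_odd, even_iff_two_dvd]
  exact fun h2 => h.two (h.closed t ht htf 2 Nat.prime_two h2)

theorem not_commute {x t : G} (hx : IsReal x) (ho : Odd (orderOf x)) (hx1 : x ≠ 1) (ht : IsReal t)
    (htf : ¬ Free π t) (hc : t * x = x * t) : False := by
  have hsq : x * x ≠ 1 := fun e => hx1 (eq_one_of_odd_of_sq ho e)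
  obtain ⟨g, hg⟩ := hx
  obtain ⟨c, hc', τ, hτ, rfl⟩ :=
    ClassGraph.exists_mul_of_coprime (h.coprime (h.free_of_sq_ne ⟨g, hg⟩ hsq) ht htf) g
  rw [mem_cen] at hc' hτ
  have hτx : τ * x * τ⁻¹ = x⁻¹ := by
    have e1 : c * (τ * x * τ⁻¹) * c⁻¹ = x⁻¹ := by rw [← hg]; group
    calc τ * x * τ⁻¹ = c⁻¹ * (c * (τ * x * τ⁻¹) * c⁻¹) * c := by group
      _ = x⁻¹ := by
        rw [e1, show c⁻¹ * x⁻¹ * c = (c⁻¹ * (x * c))⁻¹ by group, ← hc', inv_mul_cancel_left]
  have ht2 : t * t = 1 := h.sq_eq_one ht htf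
  have hti : t⁻¹ = t := inv_eq_of_mul_eq_one_right ht2
  have hreal : IsReal (t * x) := ⟨τ, by
    rw [show τ * (t * x) * τ⁻¹ = (τ * t) * x * τ⁻¹ by group, hτ,
      show t * τ * x * τ⁻¹ = t * (τ * x * τ⁻¹) by group, hτx, mul_inv_rev, hti]
    exact (Commute.inv_right (show Commute t x from hc)).eq⟩
  have hne : (t * x) * (t * x) ≠ 1 := by
    rw [show t * x * (t * x) = t * (x * t) * x by group, ← hc, ← mul_assoc t t, ht2, one_mul]
    exact hsq
  refine htf fun q hq hqπ hqd => h.free_of_sq_ne hreal hne q hq hqπ (hqd.trans ?_)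
  refine Subgroup.index_dvd_of_le fun y hy => ?_
  have hp : (t * x) ^ orderOf x = t := by
    rw [(show Commute t x from hc).mul_pow, pow_orderOf_eq_one, mul_one]
    obtain ⟨k, hk⟩ := ho
    rw [hk, pow_succ, pow_mul, pow_two, ht2, one_pow, one_mul]
  rw [mem_cen] at hy ⊢
  rw [← hp]
  exact ((show Commute y (t * x) from hy).pow_right _).eq

theorem exists_sylow {t : G} (ht : IsReal t) (htf : ¬ Free π t) :
    ∃ S : Sylow 2 G, (S : Subgroup G) ≤ cen t ∧
      cen t ≤ Subgroup.normalizer ((S : Subgroup G) : Set G) := by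
  haveI : Fact (Nat.Prime 2) := ⟨Nat.prime_two⟩
  obtain ⟨T₀⟩ : Nonempty (Sylow 2 (cen t)) := inferInstance
  have hn : (T₀ : Subgroup (cen t)).Normal := by
    refine normal_sylow_two_of_forall (fun x hx ho => ?_) T₀
    by_contra hx1
    exact h.not_commute (hx.map (cen t).subtype) (by rwa [Subgroup.coe_subtype, Subgroup.orderOf_coe])
      (fun e => hx1 (Subtype.ext e)) ht htf (mem_cen.mp x.2).symm
  obtain ⟨S, hS⟩ := ClassSize.exists_sylow_le (cen t)
    (fun h2 => (Nat.not_even_iff_odd.mpr (h.odd_index ht htf)) (even_iff_two_dvd.mpr h2)) T₀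
  refine ⟨S, hS ▸ Subgroup.map_subtype_le _, fun c hc => ?_⟩
  refine ZJ.mem_normalizer_of_conj_mem fun y hy => ?_
  rw [hS] at hy ⊢
  obtain ⟨z, hz, rfl⟩ := hy
  exact ⟨⟨c, hc⟩ * z * ⟨c, hc⟩⁻¹, hn.conj_mem z hz _, rfl⟩

theorem solvable_cen {t : G} (ht : IsReal t) (htf : ¬ Free π t) : Group.IsSolvable (cen t) := by
  obtain ⟨S, hS, hSn⟩ := h.exists_sylow ht htf
  exact solvable_of_le_normalizer S hS hSn

omit h in
theorem not_free_conj {t : G} (htf : ¬ Free π t) (g : G) : ¬ Free π (g * t * g⁻¹) := fun hf =>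
  htf fun q hq hqπ => ClassGraph.index_cen_conj g t ▸ hf q hq hqπ

/-- No odd normal subgroup. -/
theorem odd_normal_eq_bot (hns : ¬ Group.IsSolvable G)
    (ih : ∀ (H : Type u) [Group H] [Finite H], Nat.card H < Nat.card G → Split π H →
      Group.IsSolvable H) (X : Subgroup G) [X.Normal] (hX : Odd (Nat.card X)) : X = ⊥ := by
  by_contra hne
  have hlt : Nat.card (G ⧸ X) < Nat.card G := by
    rw [Subgroup.card_eq_card_quotient_mul_card_subgroup X]
    exact lt_mul_of_one_lt_right Nat.card_pos ((Subgroup.one_lt_card_iff_ne_bot X).mpr hne)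
  have hsurj := QuotientGroup.mk'_surjective X
  have hker : Odd (Nat.card (QuotientGroup.mk' X).ker) := by rwa [QuotientGroup.ker_mk']
  have hclosed : ∀ x : G ⧸ X, IsReal x → ¬ Free π x →
      ∀ p : ℕ, p.Prime → p ∣ (cen x).index → p ∈ π := by
    intro x hx hxf p hp hpd
    obtain ⟨y, rfl, hy⟩ := real_lift_odd (QuotientGroup.mk' X) hsurj hker hx
    refine h.closed y hy (fun hf => hxf fun q hq hqπ hqd => hf q hq hqπ ?_) p hp
      (hpd.trans (index_dvd_of_surjective _ hsurj y))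
    exact hqd.trans (index_dvd_of_surjective _ hsurj y)
  refine hns (solvable_of_normal X (solvable_of_odd hX) ?_)
  by_cases hex : ∃ x : G ⧸ X, IsReal x ∧ ¬ Free π x
  · exact ih _ hlt ⟨h.two, hclosed, hex⟩
  push Not at hex
  obtain ⟨t, ht, htf⟩ := h.nonempty
  have ht2 := h.sq_eq_one ht htf
  have hcentral : ∀ g : G, (g : G ⧸ X) * (t : G ⧸ X) = (t : G ⧸ X) * (g : G ⧸ X) := by
    intro g
    have htop : cen (QuotientGroup.mk' X t) = ⊤ := by
      rw [← Subgroup.index_eq_one]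
      by_contra h1
      obtain ⟨p, hp, hpd⟩ := Nat.exists_prime_and_dvd h1
      exact hex _ (ht.map _) p hp
        (h.closed t ht htf p hp (hpd.trans (index_dvd_of_surjective _ hsurj t))) hpd
    exact mem_cen.mp (htop ▸ Subgroup.mem_top (g : G ⧸ X))
  haveI := h.solvable_cen ht htf
  refine Group.isSolvable_of_surjective (f := (QuotientGroup.mk' X).comp (cen t).subtype) fun q => ?_
  obtain ⟨g, rfl⟩ := hsurj q
  set d := t * (g * t * g⁻¹) with hd
  have hdX : d ∈ X := by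
    rw [← QuotientGroup.eq_one_iff, hd, QuotientGroup.mk_mul, QuotientGroup.mk_mul,
      QuotientGroup.mk_mul, QuotientGroup.mk_inv, hcentral, mul_inv_cancel_right,
      ← QuotientGroup.mk_mul, ht2, QuotientGroup.mk_one]
  have hti : t⁻¹ = t := inv_eq_of_mul_eq_one_right ht2
  have hinv : t * d * t⁻¹ = d⁻¹ := by
    have hs2 : g * t * g⁻¹ * (g * t * g⁻¹) = 1 := by
      rw [show g * t * g⁻¹ * (g * t * g⁻¹) = g * (t * t) * g⁻¹ by group, ht2]; group
    rw [hd, mul_inv_rev, inv_eq_of_mul_eq_one_right hs2, hti, ← mul_assoc, ht2, one_mul]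
  obtain ⟨e, hed, hte⟩ : ∃ e, e * e = d ∧ e ∈ Subgroup.zpowers d := by
    obtain ⟨k, hk⟩ : Odd (orderOf d) := by
      refine hX.of_dvd_nat ?_
      have := orderOf_dvd_natCard (⟨d, hdX⟩ : X)
      rwa [Subgroup.orderOf_mk] at this
    exact ⟨d ^ (k + 1), by
      rw [← pow_add, show k + 1 + (k + 1) = orderOf d + 1 by omega, pow_succ, pow_orderOf_eq_one,
        one_mul], pow_mem (Subgroup.mem_zpowers d) _⟩
  have heX : e ∈ X := Subgroup.zpowers_le.mpr hdX hte
  have hce : t * e * t⁻¹ = e⁻¹ := by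
    obtain ⟨i, rfl⟩ := Subgroup.mem_zpowers_iff.mp hte
    rw [← conj_zpow, hinv, inv_zpow]
  refine ⟨⟨e * g, mem_cen.mpr ?_⟩, ?_⟩
  · have h1 : g * t * g⁻¹ = t * (e * e) := by rw [hed, hd, ← mul_assoc, ht2, one_mul]
    have h2 : e * t * e = t := by
      calc e * t * e = e * (t * e * t⁻¹) * t := by group
        _ = t := by rw [hce]; group
    calc e * g * t = e * (g * t * g⁻¹) * g := by group
      _ = e * t * e * e * g := by rw [h1]; group
      _ = t * (e * g) := by rw [h2]; group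
  · show ((e * g : G) : G ⧸ X) = (g : G ⧸ X)
    rw [QuotientGroup.mk_mul, (QuotientGroup.eq_one_iff e).mpr heX, one_mul]

theorem mem_pCore (hbot : ∀ X : Subgroup G, X.Normal → Odd (Nat.card X) → X = ⊥) {t : G}
    (ht : IsReal t) (htf : ¬ Free π t) : t ∈ Cfsg.pCore 2 G := by
  haveI : Fact (Nat.Prime 2) := ⟨Nat.prime_two⟩
  by_contra htQ
  have ht2 := h.sq_eq_one ht htf
  have htp : ∃ k : ℕ, t ^ 2 ^ k = 1 := ⟨1, by rw [pow_one, pow_two, ht2]⟩
  obtain ⟨g, hg⟩ := Baer.exists_conj_not_isPGroup (ZJ.isPGroup_zpowers_of_pow (p := 2) htp)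
    fun N hN hNp htN => htQ (Fitting.le_pCore hN hNp htN)
  set s := g * t * g⁻¹ with hs
  have hs2 : s * s = 1 := by
    rw [hs, show g * t * g⁻¹ * (g * t * g⁻¹) = g * (t * t) * g⁻¹ by group, ht2]; group
  have htd : t * (t * s) * t⁻¹ = (t * s)⁻¹ := by
    rw [mul_inv_rev, inv_eq_of_mul_eq_one_right ht2, inv_eq_of_mul_eq_one_right hs2, ← mul_assoc,
      ht2, one_mul]
  obtain ⟨a, ha, ha1⟩ := exists_odd_part (t * s)
  set w := (t * s) ^ 2 ^ a with hw
  have hw1 : w ≠ 1 := fun e => hg (by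
    refine ((ZJ.isPGroup_zpowers_of_pow (p := 2) (ha1 e)).to_sup_of_normal_left'
      (ZJ.isPGroup_zpowers_of_pow (p := 2) htp)
      (Subgroup.zpowers_le.mpr (ZJ.mem_normalizer_of_conj_mem fun y hy => ?_))).to_le
      ((Subgroup.closure_le _).mpr ?_)
    · obtain ⟨i, rfl⟩ := Subgroup.mem_zpowers_iff.mp hy
      rw [← conj_zpow, htd, inv_zpow, ← zpow_neg]
      exact Subgroup.zpow_mem _ (Subgroup.mem_zpowers _) _
    · intro y hy
      rcases hy with rfl | rfl
      · exact Subgroup.mem_sup_right (Subgroup.mem_zpowers _)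
      · have e : s = t * (t * s) := by rw [← mul_assoc, ht2, one_mul]
        have h' : t * (t * s) ∈ Subgroup.zpowers (t * s) ⊔ Subgroup.zpowers t :=
          mul_mem (Subgroup.mem_sup_right (Subgroup.mem_zpowers _))
            (Subgroup.mem_sup_left (Subgroup.mem_zpowers _))
        rw [← e] at h'
        exact h')
  have htw : t * w * t⁻¹ = w⁻¹ := by rw [hw, ← conj_pow, htd, inv_pow]
  have hwf := h.free_of_sq_ne ⟨t, htw⟩ fun e => hw1 (eq_one_of_odd_of_sq ha e)
  have hall : ∀ k : G, (k * t * k⁻¹) * w * (k * t * k⁻¹)⁻¹ = w⁻¹ := by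
    intro k
    obtain ⟨c, hc, τ, hτ, rfl⟩ := ClassGraph.exists_mul_of_coprime (h.coprime hwf ht htf) k
    rw [mem_cen] at hc hτ
    have e1 : c * τ * t * (c * τ)⁻¹ = c * t * c⁻¹ := by
      rw [show c * τ * t * (c * τ)⁻¹ = c * (τ * t) * τ⁻¹ * c⁻¹ by group, hτ]; group
    have hc' : c⁻¹ * w * c = w := by rw [mul_assoc, ← hc, inv_mul_cancel_left]
    rw [e1, show c * t * c⁻¹ * w * (c * t * c⁻¹)⁻¹ = c * (t * (c⁻¹ * w * c) * t⁻¹) * c⁻¹ by group,
      hc', htw, (Commute.inv_right (show Commute c w from hc)).eq, mul_inv_cancel_right]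
  set M := Subgroup.closure (Set.range fun k : G × G => (k.1 * t * k.1⁻¹) * (k.2 * t * k.2⁻¹))
    with hM
  let Inv : G → Prop := fun y => ∀ k : G, (k * t * k⁻¹) * y * (k * t * k⁻¹)⁻¹ = y⁻¹
  have hMc : ∀ y, Inv y → ∀ m ∈ M, m * y = y * m := by
    intro y hy m hm
    have hle : M ≤ cen y := by
      refine (Subgroup.closure_le _).mpr ?_
      rintro _ ⟨⟨k₁, k₂⟩, rfl⟩
      refine mem_cen.mpr (mul_inv_eq_iff_eq_mul.mp ?_)
      calc k₁ * t * k₁⁻¹ * (k₂ * t * k₂⁻¹) * y * (k₁ * t * k₁⁻¹ * (k₂ * t * k₂⁻¹))⁻¹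
          = k₁ * t * k₁⁻¹ * (k₂ * t * k₂⁻¹ * y * (k₂ * t * k₂⁻¹)⁻¹) * (k₁ * t * k₁⁻¹)⁻¹ := by group
        _ = (k₁ * t * k₁⁻¹ * y * (k₁ * t * k₁⁻¹)⁻¹)⁻¹ := by rw [hy k₂]; group
        _ = y := by rw [hy k₁, inv_inv]
    exact mem_cen.mp (hle hm)
  let J : Subgroup G :=
    { carrier := {y | y ∈ M ∧ Odd (orderOf y) ∧ Inv y}
      one_mem' := ⟨one_mem M, by rw [orderOf_one]; exact odd_one, fun k => by group⟩
      mul_mem' := by
        rintro y z ⟨hy, hyo, hyi⟩ ⟨hz, hzo, hzi⟩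
        have hc : Commute y z := hMc z hzi y hy
        refine ⟨mul_mem hy hz, (hyo.mul hzo).of_dvd_nat hc.orderOf_mul_dvd_mul_orderOf, fun k => ?_⟩
        rw [show k * t * k⁻¹ * (y * z) * (k * t * k⁻¹)⁻¹ =
          (k * t * k⁻¹ * y * (k * t * k⁻¹)⁻¹) * (k * t * k⁻¹ * z * (k * t * k⁻¹)⁻¹) by group,
          hyi k, hzi k, ← mul_inv_rev, hc.eq]
      inv_mem' := by
        rintro y ⟨hy, hyo, hyi⟩
        exact ⟨inv_mem hy, by rwa [orderOf_inv], fun k => by rw [← conj_inv, hyi k]⟩ }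
  haveI : J.Normal := ⟨fun y hyJ b => by
    obtain ⟨hy, hyo, hyi⟩ : y ∈ M ∧ Odd (orderOf y) ∧ Inv y := hyJ
    show _ ∈ M ∧ Odd (orderOf (b * y * b⁻¹)) ∧ Inv (b * y * b⁻¹)
    refine ⟨?_, ?_, fun k => ?_⟩
    · have hle : M ≤ M.comap (MulAut.conj b).toMonoidHom := by
        refine (Subgroup.closure_le _).mpr ?_
        rintro _ ⟨⟨k₁, k₂⟩, rfl⟩
        refine Subgroup.subset_closure ⟨(b * k₁, b * k₂), ?_⟩
        show _ = b * (k₁ * t * k₁⁻¹ * (k₂ * t * k₂⁻¹)) * b⁻¹
        group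
      exact hle hy
    · rwa [show orderOf (b * y * b⁻¹) = orderOf y from
        orderOf_injective (MulAut.conj b).toMonoidHom (MulAut.conj b).injective y]
    · have := hyi (b⁻¹ * k)
      calc k * t * k⁻¹ * (b * y * b⁻¹) * (k * t * k⁻¹)⁻¹
          = b * (b⁻¹ * k * t * (b⁻¹ * k)⁻¹ * y * (b⁻¹ * k * t * (b⁻¹ * k)⁻¹)⁻¹) * b⁻¹ := by group
        _ = (b * y * b⁻¹)⁻¹ := by rw [this]; group⟩
  have hJodd : Odd (Nat.card J) := by
    rw [← Nat.not_even_iff_odd, even_iff_two_dvd]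
    intro h2
    obtain ⟨j, hj⟩ := exists_prime_orderOf_dvd_card' 2 h2
    have := j.2.2.1
    rw [Subgroup.orderOf_coe, hj] at this
    exact (by decide : ¬ Odd 2) this
  have hwJ : w ∈ J := ⟨pow_mem (show t * s ∈ M from Subgroup.subset_closure ⟨(1, g), by simp [hs]⟩) _, ha, hall⟩
  rw [hbot J inferInstance hJodd, Subgroup.mem_bot] at hwJ
  exact hw1 hwJ

variable {t : G} (ht : IsReal t) (htf : ¬ Free π t)
include ht htf

theorem conj_commute (hQ : ∀ s : G, IsReal s → ¬ Free π s → s ∈ Cfsg.pCore 2 G) (g : G) :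
    t * (g * t * g⁻¹) = g * t * g⁻¹ * t := by
  haveI : Fact (Nat.Prime 2) := ⟨Nat.prime_two⟩
  haveI := Fitting.pCore_normal (G := G) 2
  obtain ⟨S, hS, -⟩ := h.exists_sylow ht htf
  exact (mem_cen.mp (hS (IsPGroup.le_sylow_of_normal (Fitting.pCore_isPGroup 2) S
    (hQ _ (isReal_conj ht g) (not_free_conj htf g))))).symm

theorem mem_closure_conj (hcomm : ∀ g : G, t * (g * t * g⁻¹) = g * t * g⁻¹ * t) :
    let A := Subgroup.closure (Set.range fun g : G => g * t * g⁻¹)
    A.Normal ∧ (∀ a ∈ A, a * a = 1) ∧ ∀ a ∈ A, ∀ b ∈ A, a * b = b * a := by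
  intro A
  have ht2 := h.sq_eq_one ht htf
  have hconj : ∀ a b : G, a * t * a⁻¹ * (b * t * b⁻¹) = b * t * b⁻¹ * (a * t * a⁻¹) := fun a b => by
    calc a * t * a⁻¹ * (b * t * b⁻¹)
        = a * (t * ((a⁻¹ * b) * t * (a⁻¹ * b)⁻¹)) * a⁻¹ := by group
      _ = a * ((a⁻¹ * b) * t * (a⁻¹ * b)⁻¹ * t) * a⁻¹ := by rw [hcomm]
      _ = _ := by group
  have hA : ∀ a ∈ A, ∀ b ∈ A, a * b = b * a := by
    intro a ha b hb
    have h1 : A ≤ Subgroup.centralizer (Set.range fun g : G => g * t * g⁻¹) := by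
      refine (Subgroup.closure_le _).mpr ?_
      rintro _ ⟨p, rfl⟩
      refine Subgroup.mem_centralizer_iff.mpr ?_
      rintro _ ⟨q, rfl⟩
      exact hconj q p
    have h2 : A ≤ cen a := (Subgroup.closure_le _).mpr fun y hy =>
      mem_cen.mpr (Subgroup.mem_centralizer_iff.mp (h1 ha) y hy)
    exact (mem_cen.mp (h2 hb)).symm
  refine ⟨⟨fun a ha b => ?_⟩, fun a ha => ?_, hA⟩
  · have hle : A ≤ A.comap (MulAut.conj b).toMonoidHom := by
      refine (Subgroup.closure_le _).mpr ?_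
      rintro _ ⟨p, rfl⟩
      exact Subgroup.subset_closure ⟨b * p, by
        show _ = b * (p * t * p⁻¹) * b⁻¹
        group⟩
    exact hle ha
  · induction ha using Subgroup.closure_induction with
    | mem y hy =>
      obtain ⟨p, rfl⟩ := hy
      rw [show p * t * p⁻¹ * (p * t * p⁻¹) = p * (t * t) * p⁻¹ by group, ht2]; group
    | one => exact one_mul 1
    | mul y z hy hz ihy ihz =>
      rw [show y * z * (y * z) = y * (z * y) * z by group, hA z hz y hy,
        show y * (y * z) * z = (y * y) * (z * z) by group, ihy, ihz, one_mul]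
    | inv y _ ihy => rw [← mul_inv_rev, ihy, inv_one]

theorem central_or_split (hcomm : ∀ g : G, t * (g * t * g⁻¹) = g * t * g⁻¹ * t) {v : G}
    (hv : v ∈ Subgroup.closure (Set.range fun g : G => g * t * g⁻¹)) (hvf : Free π v) :
    (cen v).index = 1 := by
  classical
  haveI : Fact (Nat.Prime 2) := ⟨Nat.prime_two⟩
  obtain ⟨hAn, hA2, hA⟩ := h.mem_closure_conj ht htf hcomm
  set A := Subgroup.closure (Set.range fun g : G => g * t * g⁻¹) with hAdef
  have htA : ∀ g : G, g * t * g⁻¹ ∈ A := fun g => Subgroup.subset_closure ⟨g, rfl⟩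
  have hvA : ∀ g : G, g * v * g⁻¹ ∈ A := fun g => hAn.conj_mem v hv g
  have ht2 := h.sq_eq_one ht htf
  have hv2 := hA2 v hv
  by_contra hv1
  have hcop := h.coprime hvf ht htf
  have hpair : ∀ a b : G, ∃ m : G, m * v * m⁻¹ = a * v * a⁻¹ ∧ m * t * m⁻¹ = b * t * b⁻¹ := by
    intro a b
    obtain ⟨c, hc, τ, hτ, he⟩ := ClassGraph.exists_mul_of_coprime hcop (a⁻¹ * b)
    rw [mem_cen] at hc hτ
    refine ⟨a * c, ?_, ?_⟩
    · rw [show a * c * v * (a * c)⁻¹ = a * (c * v) * c⁻¹ * a⁻¹ by group, hc]; group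
    · rw [show b = a * (a⁻¹ * b) by group, he,
        show a * (c * τ) * t * (a * (c * τ))⁻¹ = a * c * (τ * t) * τ⁻¹ * (a * c)⁻¹ by group, hτ]
      group
  set s := v * t with hs
  have hvt : Commute v t := hA v hv t (by simpa using htA 1)
  have hs2 : s * s = 1 := by
    rw [hs, show v * t * (v * t) = v * (t * v) * t by group, ← hvt.eq,
      show v * (v * t) * t = (v * v) * (t * t) by group, hv2, ht2, one_mul]
  have hmem : ∀ a b : G, a * v * a⁻¹ * (b * t * b⁻¹) ∈ ClassGraph.cls s := by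
    intro a b
    obtain ⟨m, hm1, hm2⟩ := hpair a b
    exact ⟨m, by rw [← hm1, ← hm2, hs]; group⟩
  have hcard : ∀ y : G, (ClassGraph.cls y).ncard = (cen y).index := fun y => by
    rw [← Nat.card_coe_set_eq, ClassGraph.card_cls]
  by_cases hsf : Free π s
  · have hinf : cen v ⊓ cen t = cen s ⊓ cen t := by
      ext c
      simp only [Subgroup.mem_inf, mem_cen]
      refine and_congr_left fun hct => ⟨fun hcv => ?_, fun hcs => ?_⟩
      · exact (Commute.mul_right (show Commute c v from hcv) (show Commute c t from hct)).eq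
      · have := Commute.mul_right (show Commute c s from hcs) (show Commute c t from hct)
        rwa [hs, mul_assoc, ht2, mul_one] at this
    have hns : (cen s).index = (cen v).index := by
      have h1 := ClassGraph.index_inf_of_coprime hcop
      rw [hinf, ClassGraph.index_inf_of_coprime (h.coprime hsf ht htf)] at h1
      exact Nat.eq_of_mul_eq_mul_right (Nat.pos_of_ne_zero Subgroup.index_ne_zero_of_finite) h1
    have hsurj : ∀ b : G, (fun w => w * (b * t * b⁻¹)) '' ClassGraph.cls v = ClassGraph.cls s := by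
      intro b
      refine Set.eq_of_subset_of_ncard_le ?_ ?_ (Set.toFinite _)
      · rintro _ ⟨_, ⟨a, rfl⟩, rfl⟩
        exact hmem a b
      · rw [Set.ncard_image_of_injective _ (mul_left_injective _), hcard, hcard, hns]
    let Stab : G → Prop := fun m => m ∈ A ∧ ∀ w ∈ ClassGraph.cls v, w * m ∈ ClassGraph.cls v
    have hmul : ∀ m m', Stab m → Stab m' → Stab (m * m') := fun m m' hm hm' =>
      ⟨mul_mem hm.1 hm'.1, fun w hw => by rw [← mul_assoc]; exact hm'.2 _ (hm.2 w hw)⟩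
    have hgen : ∀ b : G, Stab (t * (b * t * b⁻¹)) := by
      intro b
      refine ⟨mul_mem (by simpa using htA 1) (htA b), fun w hw => ?_⟩
      have : w * t ∈ ClassGraph.cls s := by
        rw [← hsurj 1]; exact ⟨w, hw, by simp⟩
      rw [← hsurj b] at this
      obtain ⟨w', hw', he⟩ := this
      have he' : w' * (b * t * b⁻¹) = w * t := he
      rwa [← mul_assoc, ← he', mul_assoc, hA2 _ (htA b), mul_one]
    have htA1 : t ∈ A := by simpa using htA 1
    have hall : ∀ a ∈ A, Stab a ∨ Stab (t * a) := by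
      intro a ha
      induction ha using Subgroup.closure_induction with
      | mem y hy =>
        obtain ⟨b, rfl⟩ := hy
        exact Or.inr (hgen b)
      | one => exact Or.inl ⟨one_mem A, fun w hw => by rwa [mul_one]⟩
      | mul y z hy hz ihy ihz =>
        have hty : t * y = y * t := hA t htA1 y hy
        rcases ihy with ihy | ihy <;> rcases ihz with ihz | ihz
        · exact Or.inl (hmul _ _ ihy ihz)
        · exact Or.inr (by rw [← mul_assoc, hty, mul_assoc]; exact hmul _ _ ihy ihz)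
        · exact Or.inr (by rw [← mul_assoc]; exact hmul _ _ ihy ihz)
        · refine Or.inl ?_
          have := hmul _ _ ihy ihz
          rwa [hty, mul_assoc y t (t * z), ← mul_assoc t t z, ht2, one_mul] at this
      | inv y hy ihy =>
        rwa [inv_eq_of_mul_eq_one_right (hA2 y hy)]
    have hvv : v ∈ ClassGraph.cls v := ⟨1, by simp⟩
    rcases hall v hv with hst | hst
    · obtain ⟨a, ha⟩ := hst.2 v hvv
      have ha' : a * v * a⁻¹ = 1 := ha.trans hv2
      have hv0 : v = 1 := by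
        rw [show v = a⁻¹ * (a * v * a⁻¹) * a by group, ha']; group
      apply hv1
      rw [hv0, Subgroup.index_eq_one]
      exact eq_top_iff.mpr fun c _ => mem_cen.mpr (by rw [mul_one, one_mul])
    · obtain ⟨a, ha⟩ := hst.2 v hvv
      have ha' : a * v * a⁻¹ = t := ha.trans (by rw [← mul_assoc, hvt.eq, mul_assoc, hv2, mul_one])
      apply htf
      intro q hq hqπ hqd
      rw [← ha', ClassGraph.index_cen_conj] at hqd
      exact hvf q hq hqπ hqd
  · have hsr := isReal_of_sq hs2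
    have hinf : cen v ⊓ cen t = cen v ⊓ cen s := by
      ext c
      simp only [Subgroup.mem_inf, mem_cen]
      refine and_congr_right fun hcv => ⟨fun hct => ?_, fun hcs => ?_⟩
      · exact (Commute.mul_right (show Commute c v from hcv) (show Commute c t from hct)).eq
      · have := Commute.mul_right (show Commute c v from hcv) (show Commute c s from hcs)
        rwa [hs, ← mul_assoc, hv2, one_mul] at this
    have hns : (cen s).index = (cen t).index := by
      have h1 := ClassGraph.index_inf_of_coprime hcop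
      rw [hinf, ClassGraph.index_inf_of_coprime (h.coprime hvf hsr hsf)] at h1
      exact Nat.eq_of_mul_eq_mul_left (Nat.pos_of_ne_zero Subgroup.index_ne_zero_of_finite) h1
    have hsurj : ∀ a : G, (fun w => a * v * a⁻¹ * w) '' ClassGraph.cls t = ClassGraph.cls s := by
      intro a
      refine Set.eq_of_subset_of_ncard_le ?_ ?_ (Set.toFinite _)
      · rintro _ ⟨_, ⟨b, rfl⟩, rfl⟩
        exact hmem a b
      · rw [Set.ncard_image_of_injective _ (mul_right_injective _), hcard, hcard, hns]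
    apply hv1
    rw [Subgroup.index_eq_one]
    refine eq_top_iff.mpr fun a _ => mem_cen.mpr ?_
    set u := a * v * a⁻¹ * v with hu
    have hu2 : u * u = 1 := hA2 u (mul_mem (hvA a) hv)
    have hmap : ∀ w ∈ ClassGraph.cls t, u * w ∈ ClassGraph.cls t := by
      intro w hw
      have : v * w ∈ ClassGraph.cls s := by
        rw [← hsurj 1]; exact ⟨w, hw, by simp⟩
      rw [← hsurj a] at this
      obtain ⟨w', hw', he⟩ := this
      have he' : a * v * a⁻¹ * w' = v * w := he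
      rwa [hu, mul_assoc, ← he', ← mul_assoc, hA2 _ (hvA a), one_mul]
    have hu1 : u = 1 := by
      by_contra hu1
      haveI := Fintype.ofFinite (ClassGraph.cls t)
      let σ : Equiv.Perm (ClassGraph.cls t) :=
        { toFun := fun w => ⟨u * w, hmap _ w.2⟩
          invFun := fun w => ⟨u * w, hmap _ w.2⟩
          left_inv := fun w => Subtype.ext (by simp [← mul_assoc, hu2])
          right_inv := fun w => Subtype.ext (by simp [← mul_assoc, hu2]) }
      have hc : ¬ 2 ∣ Fintype.card (ClassGraph.cls t) := by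
        rw [← Nat.card_eq_fintype_card, ClassGraph.card_cls, ← even_iff_two_dvd,
          Nat.not_even_iff_odd]
        exact h.odd_index ht htf
      obtain ⟨w, hw⟩ := Equiv.Perm.exists_fixed_point_of_prime hc (σ := σ) (n := 1)
        (by ext w; simp [pow_two, σ, ← mul_assoc, hu2])
      apply hu1
      have hw' : u * (w : G) = w := congrArg Subtype.val hw
      exact mul_eq_right.mp hw'
    have : a * v * a⁻¹ = v := by
      rw [← mul_one (a * v * a⁻¹), ← hv2, ← mul_assoc, ← hu, hu1, one_mul]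
    exact mul_inv_eq_iff_eq_mul.mp this

omit ht htf in
theorem mem_cen_of_commutator_central {a g : G} (har : IsReal a) (haf : ¬ Free π a)
    (hz : a⁻¹ * (g * a * g⁻¹) ∈ Subgroup.center G)
    (hz2 : a⁻¹ * (g * a * g⁻¹) * (a⁻¹ * (g * a * g⁻¹)) = 1) : g ∈ cen a := by
  haveI : Fact (Nat.Prime 2) := ⟨Nat.prime_two⟩
  obtain ⟨S, hS, hSn⟩ := h.exists_sylow har haf
  set z := a⁻¹ * (g * a * g⁻¹) with hzdef
  have hzc : ∀ y : G, y * z = z * y := fun y => Subgroup.mem_center_iff.mp hz y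
  have hga : g * a * g⁻¹ = a * z := by rw [hzdef]; group
  have hgg : g ^ 2 ∈ cen a := by
    refine mem_cen.mpr (mul_inv_eq_iff_eq_mul.mp ?_)
    calc g ^ 2 * a * (g ^ 2)⁻¹ = g * (g * a * g⁻¹) * g⁻¹ := by rw [pow_two]; group
      _ = g * (a * z) * g⁻¹ := by rw [hga]
      _ = (g * a * g⁻¹) * (g * z * g⁻¹) := by group
      _ = a * (z * z) := by
        rw [hga, show g * z * g⁻¹ = z from mul_inv_eq_iff_eq_mul.mpr (hzc g), mul_assoc]
      _ = a := by rw [hz2, mul_one]
  have hgn : ∀ c ∈ cen a, g * c * g⁻¹ ∈ cen a := fun c hc => by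
    have h3 : g * c * g⁻¹ ∈ cen (g * a * g⁻¹) :=
      TwoClassSizes.mem_cen_conj.mpr (by simpa [mul_assoc] using hc)
    rw [hga, mem_cen] at h3
    rw [mem_cen]
    have h4 := Commute.mul_right (show Commute (g * c * g⁻¹) (a * z) from h3)
      (show Commute (g * c * g⁻¹) z from hzc _)
    rw [mul_assoc a z z, hz2, mul_one] at h4
    exact h4.eq
  obtain ⟨m, hm, k, hk⟩ := ZJ.exists_two_part g
  have hgm : g ^ m ∈ Subgroup.normalizer ((S : Subgroup G) : Set G) := by
    refine pow_mem (ZJ.mem_normalizer_of_conj_mem fun s hs => ?_) m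
    obtain ⟨j, hj⟩ := S.2 ⟨s, hs⟩
    have hj' : s ^ 2 ^ j = 1 := congrArg Subtype.val hj
    exact mem_sylow_of_two_element S ⟨j, by rw [conj_pow, hj']; group⟩ (hSn (hgn s (hS hs)))
  have hgmC := hS (mem_sylow_of_two_element S ⟨k, hk⟩ hgm)
  obtain ⟨i, rfl⟩ := hm
  rw [pow_succ', pow_mul] at hgmC
  simpa using mul_mem hgmC (inv_mem (pow_mem hgg i))

theorem real_lift (L : Subgroup G) [L.Normal] (hLt : L ≤ cen t) (w : G ⧸ L) (hw : IsReal w)
    (ho : Odd (orderOf w)) : ∃ y : G, (y : G ⧸ L) = w ∧ IsReal y := by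
  haveI : Fact (Nat.Prime 2) := ⟨Nat.prime_two⟩
  obtain ⟨St, -, hStn⟩ := h.exists_sylow ht htf
  let L₂ : Subgroup G := L ⊓ (St : Subgroup G)
  haveI hL₂n : L₂.Normal := ⟨fun y hy g => by
    obtain ⟨hyL, hyS⟩ := Subgroup.mem_inf.mp hy
    have hg : g * y * g⁻¹ ∈ L := (inferInstance : L.Normal).conj_mem y hyL g
    obtain ⟨j, hj⟩ := St.2 ⟨y, hyS⟩
    have hj' : y ^ 2 ^ j = 1 := congrArg Subtype.val hj
    exact Subgroup.mem_inf.mpr
      ⟨hg, mem_sylow_of_two_element St ⟨j, by rw [conj_pow, hj']; group⟩ (hStn (hLt hg))⟩⟩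
  let f₁ : G →* G ⧸ L₂ := QuotientGroup.mk' L₂
  let f₂ : G ⧸ L₂ →* G ⧸ L := QuotientGroup.lift L₂ (QuotientGroup.mk' L) (by
    rw [QuotientGroup.ker_mk']; exact inf_le_left)
  have hf₂ : Function.Surjective f₂ := fun q => by
    obtain ⟨g, rfl⟩ := QuotientGroup.mk'_surjective L q
    exact ⟨f₁ g, rfl⟩
  have hk₂ : Odd (Nat.card f₂.ker) := by
    rw [← Nat.not_even_iff_odd, even_iff_two_dvd]
    intro h2
    obtain ⟨q, hq⟩ := exists_prime_orderOf_dvd_card' 2 h2
    obtain ⟨g, hg⟩ := QuotientGroup.mk'_surjective L₂ (q : G ⧸ L₂)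
    have hgL : g ∈ L := by
      have : f₂ (QuotientGroup.mk' L₂ g) = 1 := by rw [hg]; exact q.2
      exact (QuotientGroup.eq_one_iff g).mp this
    obtain ⟨m, hm, k, hk⟩ := ZJ.exists_two_part g
    have hgm : g ^ m ∈ L₂ := Subgroup.mem_inf.mpr
      ⟨pow_mem hgL m, mem_sylow_of_two_element St ⟨k, hk⟩ (hStn (hLt (pow_mem hgL m)))⟩
    have h1 : (q : G ⧸ L₂) ^ m = 1 := by
      rw [← hg, ← map_pow]; exact (QuotientGroup.eq_one_iff _).mpr hgm
    have h3 := orderOf_dvd_of_pow_eq_one h1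
    rw [Subgroup.orderOf_coe, hq] at h3
    exact Nat.not_even_iff_odd.mpr hm (even_iff_two_dvd.mpr h3)
  obtain ⟨q, rfl, hq⟩ := real_lift_odd f₂ hf₂ hk₂ hw
  have hk₁ : IsPGroup 2 f₁.ker := by
    show IsPGroup 2 (QuotientGroup.mk' L₂).ker
    rw [QuotientGroup.ker_mk']
    exact St.2.to_le inf_le_right
  obtain ⟨d, hd, hdo⟩ : ∃ d, f₂ (q ^ d) = f₂ q ∧ Odd (orderOf (q ^ d)) := by
    obtain ⟨a, ha, -⟩ := exists_odd_part q
    obtain ⟨i, hi⟩ := exists_pow_eq_self_of_coprime (x := f₂ q) (n := 2 ^ a)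
      ((Nat.coprime_two_left.mpr ho).pow_left a)
    exact ⟨2 ^ a * i, by rw [map_pow, pow_mul, hi], by
      rw [pow_mul]; exact ha.of_dvd_nat (orderOf_pow_dvd i)⟩
  obtain ⟨y, hy, hyr⟩ := real_lift_two f₁ (QuotientGroup.mk'_surjective L₂) hk₁ (hq.pow d) hdo
  exact ⟨y, by rw [← hd, ← hy]; rfl, hyr⟩

theorem false_of_reduced (hns : ¬ Group.IsSolvable G)
    (hbot : ∀ X : Subgroup G, X.Normal → Odd (Nat.card X) → X = ⊥) : False := by
  haveI : Fact (Nat.Prime 2) := ⟨Nat.prime_two⟩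
  have hQ : ∀ s : G, IsReal s → ¬ Free π s → s ∈ Cfsg.pCore 2 G := fun s hs hsf =>
    h.mem_pCore hbot hs hsf
  have hcomm := h.conj_commute ht htf hQ
  obtain ⟨hAn, hA2, hA⟩ := h.mem_closure_conj ht htf hcomm
  set A := Subgroup.closure (Set.range fun g : G => g * t * g⁻¹) with hAdef
  haveI := hAn
  obtain ⟨V, _, _, _, ρ₀, mk, hmk, hzero, heq, hρ⟩ := exists_conj_module A hA2 hA
  have hII : ∀ a : A, mk a ≠ 0 → IsReal (a : G) ∧ ¬ Free π (a : G) := by
    intro a ha
    refine ⟨isReal_of_sq (hA2 a a.2), fun hf => ha ((hzero a).mpr ?_)⟩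
    have h1 := h.central_or_split ht htf hcomm a.2 hf
    rw [Subgroup.index_eq_one] at h1
    exact Subgroup.mem_center_iff.mpr fun g => mem_cen.mp (h1 ▸ Subgroup.mem_top g)
  have hfix : ∀ (g : G) (a : A), mk a ≠ 0 → (ρ₀ g (mk a) = mk a ↔ g ∈ cen (a : G)) := by
    intro g a ha
    obtain ⟨har, haf⟩ := hII a ha
    constructor
    · intro hg
      rw [hρ, eq_comm, heq] at hg
      exact h.mem_cen_of_commutator_central har haf hg
        (hA2 _ (mul_mem (inv_mem a.2) (hAn.conj_mem _ a.2 g)))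
    · intro hg
      rw [hρ]
      congr 1
      exact Subtype.ext (mul_inv_eq_iff_eq_mul.mpr (mem_cen.mp hg))
  have htA : t ∈ A := Subgroup.subset_closure ⟨1, by simp⟩
  have htV : mk ⟨t, htA⟩ ≠ 0 := fun e => htf fun q hq _ hqd => by
    rw [(Subgroup.index_eq_one.mpr (eq_top_iff.mpr fun c _ =>
      mem_cen.mpr (Subgroup.mem_center_iff.mp ((hzero _).mp e) c)) : (cen t).index = 1)] at hqd
    exact hq.one_lt.ne' (Nat.dvd_one.mp hqd)
  have hLt : ρ₀.ker ≤ cen t := fun g hg => (hfix g ⟨t, htA⟩ htV).mp (by rw [MonoidHom.mem_ker.mp hg]; rfl)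
  let f : G →* G ⧸ ρ₀.ker := QuotientGroup.mk' ρ₀.ker
  have hfs : Function.Surjective f := QuotientGroup.mk'_surjective ρ₀.ker
  obtain ⟨ρ, hρinj, hρf⟩ := exists_faithful ρ₀
  have hstab : ∀ (g : G) (a : A), mk a ≠ 0 → (f g ∈ stab ρ (mk a) ↔ g ∈ cen (a : G)) :=
    fun g a ha => by rw [mem_stab, hρf]; exact hfix g a ha
  have H : RealFree ρ :=
    { inj := hρinj
      sylow := fun x hx => by
        obtain ⟨a, rfl⟩ := hmk x
        obtain ⟨har, haf⟩ := hII a hx
        obtain ⟨S, hS, hSn⟩ := h.exists_sylow har haf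
        refine ⟨S.mapSurjective hfs, ?_, ?_⟩
        · show (S : Subgroup G).map f ≤ _
          rintro _ ⟨s, hs, rfl⟩
          exact (hstab s a hx).mpr (hS hs)
        · intro q hq
          obtain ⟨g, rfl⟩ := hfs q
          show f g ∈ Subgroup.normalizer (((S : Subgroup G).map f : Subgroup (G ⧸ ρ₀.ker)) : Set (G ⧸ ρ₀.ker))
          exact Subgroup.le_normalizer_map f ⟨g, hSn ((hstab g a hx).mp hq), rfl⟩
      real := fun w hw ho hw1 x hx => by
        obtain ⟨a, rfl⟩ := hmk x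
        obtain ⟨har, haf⟩ := hII a hx
        obtain ⟨y, hyw, hy⟩ := h.real_lift ht htf ρ₀.ker hLt w hw ho
        obtain rfl : f y = w := hyw
        have hysq : y * y ≠ 1 := fun e => hw1 (eq_one_of_odd_of_sq ho (by
          rw [← map_mul, e, map_one]))
        have hfac : ∀ q : G ⧸ ρ₀.ker, ∃ c τ : G ⧸ ρ₀.ker, c * f y = f y * c ∧ τ ∈ stab ρ (mk a) ∧
            q = c * τ := by
          intro q
          obtain ⟨g, rfl⟩ := hfs q
          obtain ⟨c, hc, τ, hτ, rfl⟩ := ClassGraph.exists_mul_of_coprime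
            (h.coprime (h.free_of_sq_ne hy hysq) har haf) g
          exact ⟨f c, f τ, by rw [← map_mul, ← map_mul, mem_cen.mp hc], (hstab τ a hx).mpr hτ,
            map_mul f c τ⟩
        refine ⟨fun hfixy => ?_, hfac⟩
        obtain ⟨S, hS, hSn⟩ := h.exists_sylow har haf
        obtain ⟨i, hi⟩ := hw
        obtain ⟨c, τ, hc, hτ, rfl⟩ := hfac i
        obtain ⟨τ₀, rfl⟩ := hfs τ
        have hτ' := (hstab τ₀ a hx).mp hτ
        have hy' := (hstab y a hx).mp hfixy
        have hinv : f τ₀ * f y * (f τ₀)⁻¹ = (f y)⁻¹ := by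
          have e1 : c * (f τ₀ * f y * (f τ₀)⁻¹) * c⁻¹ = (f y)⁻¹ := by rw [← hi]; group
          calc f τ₀ * f y * (f τ₀)⁻¹ = c⁻¹ * (c * (f τ₀ * f y * (f τ₀)⁻¹) * c⁻¹) * c := by group
            _ = (f y)⁻¹ := by
              rw [e1, show c⁻¹ * (f y)⁻¹ * c = (c⁻¹ * (f y * c))⁻¹ by group, ← hc,
                inv_mul_cancel_left]
        refine hw1 (eq_one_of_real_mem (S.mapSurjective hfs) (H := (cen (a : G)).map f) ?_ ?_
          ⟨y, hy', rfl⟩ ⟨τ₀, hτ', rfl⟩ hinv ho)
        · exact Subgroup.map_mono hS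
        · show _ ≤ Subgroup.normalizer (((S : Subgroup G).map f : Subgroup (G ⧸ ρ₀.ker)) : Set (G ⧸ ρ₀.ker))
          exact (Subgroup.map_mono hSn).trans (Subgroup.le_normalizer_map f) }
  exact hns (solvable_of_normal ρ₀.ker (Coprime.isSolvable_of_le hLt (h.solvable_cen ht htf))
    (realFree_solvable H))

end Split

theorem solvable_of_split {π : Set ℕ} : ∀ (n : ℕ) (G : Type u) [Group G] [Finite G],
    Nat.card G = n → Split π G → Group.IsSolvable G := by
  intro n
  induction n using Nat.strong_induction_on with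
  | _ n ih =>
  intro G _ _ hn h
  by_contra hns
  obtain ⟨t, ht, htf⟩ := h.nonempty
  refine h.false_of_reduced ht htf hns fun X hX hodd => ?_
  haveI := hX
  exact h.odd_normal_eq_bot hns (fun H _ _ hlt hH => ih _ (hn ▸ hlt) H rfl hH) X hodd

end CfsgLib.RealClassGraph
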