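import Cfsg.Agent.Lib.RealClassGraph.Basic

/-!
Linear groups over `GF(2)` all of whose vector stabilizers contain a normal Sylow `2`-subgroup of
the group: the partition of the non-zero vectors and the fixed spaces of involutions.
-/

set_option autoImplicit false
set_option linter.style.haveILetI false

namespace CfsgLib.RealClassGraph

universe u v

variable {W : Type u} [Group W] {V : Type v} [AddCommGroup V] [Module (ZMod 2) V]
  (ρ : W →* Module.End (ZMod 2) V)

theorem add_self_zero (x : V) : x + x = 0 := ZModModule.add_self x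

theorem apply_mul (a b : W) (x : V) : ρ (a * b) x = ρ a (ρ b x) := by
  rw [map_mul]; rfl

theorem apply_inv_apply (a : W) (x : V) : ρ a⁻¹ (ρ a x) = x := by
  rw [← apply_mul, inv_mul_cancel, map_one]; rfl

theorem apply_apply_inv (a : W) (x : V) : ρ a (ρ a⁻¹ x) = x := by
  rw [← apply_mul, mul_inv_cancel, map_one]; rfl

/-- The stabilizer of a vector. -/
def stab (x : V) : Subgroup W where
  carrier := {w | ρ w x = x}
  one_mem' := by show ρ 1 x = x; rw [map_one]; rfl
  mul_mem' {a b} ha hb := by show ρ (a * b) x = x; rw [apply_mul, hb, ha]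
  inv_mem' {a} ha := by
    show ρ a⁻¹ x = x
    conv_lhs => rw [← (ha : ρ a x = x), apply_inv_apply]

@[simp] theorem mem_stab {x : V} {w : W} : w ∈ stab ρ x ↔ ρ w x = x := Iff.rfl

/-- The fixed space of a subgroup. -/
def fix (P : Subgroup W) : Submodule (ZMod 2) V where
  carrier := {x | ∀ s ∈ P, ρ s x = x}
  add_mem' {a b} ha hb s hs := by rw [map_add, ha s hs, hb s hs]
  zero_mem' s _ := map_zero _
  smul_mem' c x hx s hs := by rw [map_smul, hx s hs]

@[simp] theorem mem_fix {P : Subgroup W} {x : V} : x ∈ fix ρ P ↔ ∀ s ∈ P, ρ s x = x := Iff.rfl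

theorem le_stab_iff {P : Subgroup W} {x : V} : P ≤ stab ρ x ↔ x ∈ fix ρ P := Iff.rfl

/-- The fixed space of an element. -/
def fixEl (g : W) : Submodule (ZMod 2) V := LinearMap.ker (ρ g + 1)

theorem mem_fixEl {g : W} {x : V} : x ∈ fixEl ρ g ↔ ρ g x = x := by
  show ρ g x + x = 0 ↔ _
  rw [add_eq_zero_iff_eq_neg, ZModModule.neg_eq_self]

theorem apply_fixEl {g c : W} (hc : c * g = g * c) {x : V} (hx : x ∈ fixEl ρ g) :
    ρ c x ∈ fixEl ρ g := by
  rw [mem_fixEl] at hx ⊢
  rw [← apply_mul, ← hc, apply_mul, hx]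

theorem natCard_submodule [Finite V] (X : Submodule (ZMod 2) V) :
    Nat.card X = 2 ^ Module.finrank (ZMod 2) X := by
  rw [Module.natCard_eq_pow_finrank (K := ZMod 2), Nat.card_zmod]

theorem natCard_module [Finite V] : Nat.card V = 2 ^ Module.finrank (ZMod 2) V := by
  rw [Module.natCard_eq_pow_finrank (K := ZMod 2), Nat.card_zmod]

theorem natCard_ne_zero [Finite V] (X : Submodule (ZMod 2) V) :
    Nat.card {x : X // x ≠ 0} = Nat.card X - 1 := by
  classical
  haveI := Fintype.ofFinite X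
  rw [Nat.card_eq_fintype_card, Nat.card_eq_fintype_card, Fintype.card_subtype_compl,
    Fintype.card_subtype_eq]

/-- Every stabilizer of a non-zero vector contains a normal Sylow `2`-subgroup of the group. -/
structure TwoClosedStab : Prop where
  inj : Function.Injective ρ
  sylow : ∀ x : V, x ≠ 0 → ∃ S : Sylow 2 W,
    (S : Subgroup W) ≤ stab ρ x ∧ stab ρ x ≤ Subgroup.normalizer ((S : Subgroup W) : Set W)

/-- In addition, real elements of odd order move every non-zero vector and have centralizers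
transitive on its orbit. -/
structure RealFree : Prop extends TwoClosedStab ρ where
  real : ∀ g : W, IsReal g → Odd (orderOf g) → g ≠ 1 → ∀ x : V, x ≠ 0 →
    ρ g x ≠ x ∧ ∀ w : W, ∃ c τ : W, c * g = g * c ∧ τ ∈ stab ρ x ∧ w = c * τ

variable {ρ}

namespace TwoClosedStab

variable (H : TwoClosedStab ρ)
include H

theorem eq_one_of_fix {g : W} (h : ∀ x, ρ g x = x) : g = 1 :=
  H.inj (by rw [map_one]; exact LinearMap.ext h)

variable [Finite W]

theorem unique {S : Sylow 2 W} {x : V} (hx : x ≠ 0) (hS : (S : Subgroup W) ≤ stab ρ x) :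
    stab ρ x ≤ Subgroup.normalizer ((S : Subgroup W) : Set W) := by
  obtain ⟨T, hT, hTn⟩ := H.sylow x hx
  have hle : (S : Subgroup W) ≤ (T : Subgroup W) := fun s hs => by
    obtain ⟨k, hk⟩ := S.2 ⟨s, hs⟩
    exact mem_sylow_of_two_element T ⟨k, congrArg Subtype.val hk⟩ (hTn (hS hs))
  rwa [← S.is_maximal' T.2 hle]

theorem sylow_eq {S T : Sylow 2 W} {x : V} (hx : x ≠ 0) (hS : x ∈ fix ρ (S : Subgroup W))
    (hT : x ∈ fix ρ (T : Subgroup W)) : S = T := by
  refine Sylow.ext ?_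
  have hle : (S : Subgroup W) ≤ (T : Subgroup W) := fun s hs => by
    obtain ⟨k, hk⟩ := S.2 ⟨s, hs⟩
    exact mem_sylow_of_two_element T ⟨k, congrArg Subtype.val hk⟩ (H.unique hx hT (hS s hs))
  exact (S.is_maximal' T.2 hle).symm

theorem core_eq_bot {N : Subgroup W} [N.Normal] (hN : IsPGroup 2 N) : N = ⊥ := by
  refine (Subgroup.eq_bot_iff_forall N).mpr fun g hg => H.eq_one_of_fix fun x => ?_
  by_cases hx : x = 0
  · rw [hx, map_zero]
  · obtain ⟨S, hS, -⟩ := H.sylow x hx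
    exact hS (IsPGroup.le_sylow_of_normal hN S hg)

omit H in
theorem mem_fix_smul {g : W} {S : Sylow 2 W} {x : V} (hx : x ∈ fix ρ (S : Subgroup W)) :
    ρ g x ∈ fix ρ ((g • S : Sylow 2 W) : Subgroup W) := by
  intro s hs
  rw [Sylow.coe_subgroup_smul, Subgroup.mem_pointwise_smul_iff_inv_smul_mem, ← map_inv,
    MulAut.smul_def, MulAut.conj_apply, inv_inv] at hs
  have := hx _ hs
  rw [apply_mul, apply_mul] at this
  calc ρ s (ρ g x) = ρ g (ρ g⁻¹ (ρ s (ρ g x))) := (apply_apply_inv ρ g _).symm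
    _ = ρ g x := by rw [this]

theorem stab_smul {S : Sylow 2 W} {x : V} (hx : x ≠ 0) (hS : x ∈ fix ρ (S : Subgroup W)) {w : W}
    (hw : w ∈ stab ρ x) : w • S = S :=
  Sylow.smul_eq_iff_mem_normalizer.mpr (H.unique hx hS hw)

variable [Finite V]

omit H in
theorem card_fix_eq (S T : Sylow 2 W) :
    Nat.card (fix ρ (S : Subgroup W)) = Nat.card (fix ρ (T : Subgroup W)) := by
  haveI : Fact (Nat.Prime 2) := ⟨Nat.prime_two⟩
  obtain ⟨g, rfl⟩ := MulAction.exists_smul_eq W S T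
  refine Nat.card_congr
    { toFun := fun x => ⟨ρ g x, mem_fix_smul x.2⟩
      invFun := fun x => ⟨ρ g⁻¹ x, by
        have := mem_fix_smul (g := g⁻¹) x.2
        rwa [inv_smul_smul] at this⟩
      left_inv := fun x => Subtype.ext (apply_inv_apply ρ g _)
      right_inv := fun x => Subtype.ext (apply_apply_inv ρ g _) }

omit H in
theorem finrank_fix_eq (S T : Sylow 2 W) : Module.finrank (ZMod 2) (fix ρ (S : Subgroup W)) =
    Module.finrank (ZMod 2) (fix ρ (T : Subgroup W)) := by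
  have h := card_fix_eq (ρ := ρ) S T
  rw [natCard_submodule, natCard_submodule] at h
  exact Nat.pow_right_injective le_rfl h

theorem finrank_fix_pos [Nontrivial V] (S : Sylow 2 W) :
    0 < Module.finrank (ZMod 2) (fix ρ (S : Subgroup W)) := by
  obtain ⟨x, hx⟩ := exists_ne (0 : V)
  obtain ⟨T, hT, -⟩ := H.sylow x hx
  rw [finrank_fix_eq S T, Module.finrank_pos_iff]
  exact ⟨⟨⟨x, hT⟩, 0, fun h => hx (congrArg Subtype.val h)⟩⟩

theorem count [Fintype (Sylow 2 W)] (X : Submodule (ZMod 2) V) :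
    Nat.card X - 1 = ∑ S : Sylow 2 W, (Nat.card ↥(X ⊓ fix ρ (S : Subgroup W)) - 1) := by
  classical
  have hne : ∀ x : {x : X // x ≠ 0}, ((x : X) : V) ≠ 0 := fun x h => x.2 (Subtype.ext h)
  let f : {x : X // x ≠ 0} → Sylow 2 W := fun x => (H.sylow _ (hne x)).choose
  have hf : ∀ x, ((x : X) : V) ∈ fix ρ (f x : Subgroup W) := fun x =>
    (H.sylow _ (hne x)).choose_spec.1
  rw [← natCard_ne_zero, ← Nat.card_congr (Equiv.sigmaFiberEquiv f), Nat.card_sigma]
  refine Finset.sum_congr rfl fun S _ => ?_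
  rw [← natCard_ne_zero]
  exact Nat.card_congr
    { toFun := fun x => ⟨⟨(((x : {x : X // x ≠ 0}) : X) : V),
        ⟨((x : {x : X // x ≠ 0}) : X).2, by
          have h := hf x.1
          rwa [x.2] at h⟩⟩,
        fun h => hne x.1 (congrArg Subtype.val h)⟩
      invFun := fun y => ⟨⟨⟨((y : ↥(X ⊓ fix ρ (S : Subgroup W))) : V), y.1.2.1⟩,
          fun h => y.2 (Subtype.ext (by simpa using congrArg (fun z : X => (z : V)) h))⟩,
        H.sylow_eq (hne _) (hf _) y.1.2.2⟩
      left_inv := fun x => rfl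
      right_inv := fun y => rfl }

theorem card_sylow_mul (S : Sylow 2 W) :
    Nat.card (Sylow 2 W) * (2 ^ Module.finrank (ZMod 2) (fix ρ (S : Subgroup W)) - 1) =
      2 ^ Module.finrank (ZMod 2) V - 1 := by
  haveI := Fintype.ofFinite (Sylow 2 W)
  have h := H.count ⊤
  rw [natCard_submodule, finrank_top] at h
  rw [h, Finset.sum_congr rfl (fun T _ => by
    rw [top_inf_eq, natCard_submodule, finrank_fix_eq T S] :
      ∀ T ∈ (Finset.univ : Finset (Sylow 2 W)), Nat.card ↥((⊤ : Submodule (ZMod 2) V) ⊓ fix ρ (T : Subgroup W)) - 1 =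
        2 ^ Module.finrank (ZMod 2) (fix ρ (S : Subgroup W)) - 1),
    Finset.sum_const, Finset.card_univ, smul_eq_mul, Nat.card_eq_fintype_card]

omit [Finite V] in
theorem exists_dihedral {b : W} (hb : b * b = 1) (hb1 : b ≠ 1) :
    ∃ g : W, ∃ e : ℕ, (b * (g * b * g⁻¹)) ^ e ≠ 1 ∧ Odd (orderOf ((b * (g * b * g⁻¹)) ^ e)) ∧
      b * (b * (g * b * g⁻¹)) ^ e * b⁻¹ = ((b * (g * b * g⁻¹)) ^ e)⁻¹ := by
  haveI : Fact (Nat.Prime 2) := ⟨Nat.prime_two⟩
  have hbp : ∃ k : ℕ, b ^ 2 ^ k = 1 := ⟨1, by rw [pow_one, pow_two, hb]⟩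
  obtain ⟨g, hg⟩ := Baer.exists_conj_not_isPGroup (ZJ.isPGroup_zpowers_of_pow (p := 2) hbp)
    fun N hN hNp hbN => hb1 (by
      haveI := hN
      rwa [H.core_eq_bot hNp, Subgroup.mem_bot] at hbN)
  set s := g * b * g⁻¹ with hs
  have hs2 : s * s = 1 := by
    rw [hs, show g * b * g⁻¹ * (g * b * g⁻¹) = g * (b * b) * g⁻¹ by group, hb]; group
  have hbd : b * (b * s) * b⁻¹ = (b * s)⁻¹ := by
    rw [mul_inv_rev, inv_eq_of_mul_eq_one_right hb, inv_eq_of_mul_eq_one_right hs2, ← mul_assoc,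
      hb, one_mul]
  obtain ⟨a, ha, ha1⟩ := exists_odd_part (b * s)
  refine ⟨g, 2 ^ a, fun h1 => hg ?_, ha, by rw [← conj_pow, hbd, inv_pow]⟩
  have hd := ZJ.isPGroup_zpowers_of_pow (p := 2) (ha1 h1)
  refine (hd.to_sup_of_normal_left' (ZJ.isPGroup_zpowers_of_pow (p := 2) hbp)
    (Subgroup.zpowers_le.mpr (ZJ.mem_normalizer_of_conj_mem fun y hy => ?_))).to_le
    ((Subgroup.closure_le _).mpr ?_)
  · obtain ⟨i, rfl⟩ := Subgroup.mem_zpowers_iff.mp hy
    rw [← conj_zpow, hbd, inv_zpow, ← zpow_neg]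
    exact Subgroup.zpow_mem _ (Subgroup.mem_zpowers _) _
  · intro y hy
    rcases hy with rfl | rfl
    · exact Subgroup.mem_sup_right (Subgroup.mem_zpowers _)
    · have e : s = b * (b * s) := by rw [← mul_assoc, hb, one_mul]
      have h : b * (b * s) ∈ Subgroup.zpowers (b * s) ⊔ Subgroup.zpowers b :=
        mul_mem (Subgroup.mem_sup_right (Subgroup.mem_zpowers _))
          (Subgroup.mem_sup_left (Subgroup.mem_zpowers _))
      rw [← e] at h
      exact h

end TwoClosedStab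

namespace RealFree

variable [Finite W] (H : RealFree ρ)
include H

theorem exists_inverted {b : W} (hb : b * b = 1) (hb1 : b ≠ 1) :
    ∃ x : W, x ≠ 1 ∧ Odd (orderOf x) ∧ b * x * b⁻¹ = x⁻¹ := by
  obtain ⟨g, e, h1, h2, h3⟩ := H.exists_dihedral hb hb1
  exact ⟨_, h1, h2, h3⟩

theorem factor' {g : W} (hr : IsReal g) (ho : Odd (orderOf g)) (hg : g ≠ 1) {x : V} (hx : x ≠ 0)
    (w : W) : ∃ τ c : W, τ ∈ stab ρ x ∧ c * g = g * c ∧ w = τ * c := by
  obtain ⟨c, τ, hc, hτ, he⟩ := (H.real g hr ho hg x hx).2 w⁻¹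
  exact ⟨τ⁻¹, c⁻¹, inv_mem hτ, (Commute.inv_left hc).eq, by rw [← mul_inv_rev, ← he, inv_inv]⟩

theorem conj_mem {g : W} (hr : IsReal g) (ho : Odd (orderOf g)) (hg : g ≠ 1) {x : V} (hx : x ≠ 0)
    {M : Subgroup W} (hM : stab ρ x ≤ M) (hgM : g ∈ M) (w : W) : w * g * w⁻¹ ∈ M := by
  obtain ⟨τ, c, hτ, hc, rfl⟩ := H.factor' hr ho hg hx w
  rw [show τ * c * g * (τ * c)⁻¹ = τ * (c * g * c⁻¹) * τ⁻¹ by group, hc, mul_inv_cancel_right]
  exact mul_mem (mul_mem (hM hτ) hgM) (inv_mem (hM hτ))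

variable [Finite V]

theorem fixEl_involution {b : W} (hb : b * b = 1) (hb1 : b ≠ 1) :
    2 * Module.finrank (ZMod 2) (fixEl ρ b) = Module.finrank (ZMod 2) V ∧
      LinearMap.range (ρ b + 1) = fixEl ρ b := by
  haveI : Fact (Nat.Prime 2) := ⟨Nat.prime_two⟩
  have hle : LinearMap.range (ρ b + 1) ≤ fixEl ρ b := by
    rintro _ ⟨x, rfl⟩
    rw [mem_fixEl]
    show ρ b (ρ b x + x) = ρ b x + x
    rw [map_add, ← apply_mul, hb, map_one, add_comm]
    rfl
  have h1 := LinearMap.finrank_range_add_finrank_ker (ρ b + 1)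
  have h2 := Submodule.finrank_mono hle
  obtain ⟨g, e, hne, hodd, hinv⟩ := H.exists_dihedral hb hb1
  have hdisj : fixEl ρ b ⊓ fixEl ρ (g * b * g⁻¹) = ⊥ := by
    refine (Submodule.eq_bot_iff _).mpr fun x ⟨hx, hx'⟩ => ?_
    by_contra hx0
    refine (H.real _ ⟨b, hinv⟩ hodd hne x hx0).1 ?_
    have hs : b * (g * b * g⁻¹) ∈ stab ρ x :=
      mul_mem ((mem_fixEl ρ).mp hx) ((mem_fixEl ρ).mp hx')
    exact pow_mem hs e
  have hconj : Module.finrank (ZMod 2) (fixEl ρ (g * b * g⁻¹)) =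
      Module.finrank (ZMod 2) (fixEl ρ b) := by
    apply Nat.pow_right_injective (le_refl 2)
    show 2 ^ _ = 2 ^ _
    rw [← natCard_submodule, ← natCard_submodule]
    refine Nat.card_congr
      { toFun := fun x => ⟨ρ g⁻¹ x, ?_⟩
        invFun := fun x => ⟨ρ g x, ?_⟩
        left_inv := fun x => Subtype.ext (apply_apply_inv ρ g _)
        right_inv := fun x => Subtype.ext (apply_inv_apply ρ g _) }
    · have hx := (mem_fixEl ρ).mp x.2
      rw [apply_mul, apply_mul] at hx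
      rw [mem_fixEl]
      conv_rhs => rw [← hx, apply_inv_apply]
    · rw [mem_fixEl, apply_mul, apply_mul, apply_inv_apply, (mem_fixEl ρ).mp x.2]
  have h3 := Submodule.finrank_sup_add_finrank_inf_eq (fixEl ρ b) (fixEl ρ (g * b * g⁻¹))
  rw [hdisj, finrank_bot, add_zero, hconj] at h3
  have h4 := Submodule.finrank_le (fixEl ρ b ⊔ fixEl ρ (g * b * g⁻¹))
  have h1' : Module.finrank (ZMod 2) (LinearMap.range (ρ b + 1)) +
      Module.finrank (ZMod 2) (fixEl ρ b) = Module.finrank (ZMod 2) V := h1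
  exact ⟨by omega, Submodule.eq_of_le_of_finrank_le hle (by omega)⟩

theorem card_containing [Fintype (Sylow 2 W)]
    {b : W} (hb : b * b = 1) (S : Sylow 2 W) :
    Nat.card {T : Sylow 2 W // b ∈ (T : Subgroup W)} *
        (2 ^ Module.finrank (ZMod 2) (fix ρ (S : Subgroup W)) - 1) =
      2 ^ Module.finrank (ZMod 2) (fixEl ρ b) - 1 := by
  classical
  have h := H.count (fixEl ρ b)
  rw [natCard_submodule] at h
  have hterm : ∀ T : Sylow 2 W, Nat.card ↥(fixEl ρ b ⊓ fix ρ (T : Subgroup W)) - 1 =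
      if b ∈ (T : Subgroup W) then 2 ^ Module.finrank (ZMod 2) (fix ρ (S : Subgroup W)) - 1
      else 0 := by
    intro T
    split_ifs with hbT
    · rw [inf_eq_right.mpr (fun x hx => (mem_fixEl ρ).mpr (hx b hbT)), natCard_submodule,
        TwoClosedStab.finrank_fix_eq T S]
    · have hbot : fixEl ρ b ⊓ fix ρ (T : Subgroup W) = ⊥ := by
        refine (Submodule.eq_bot_iff _).mpr fun x ⟨hx, hx'⟩ => ?_
        by_contra hx0
        exact hbT (mem_sylow_of_two_element T ⟨1, by rw [pow_one, pow_two, hb]⟩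
          (H.unique hx0 hx' ((mem_fixEl ρ).mp hx)))
      rw [hbot]
      simp
  rw [h, Finset.sum_congr rfl (fun T _ => hterm T), ← Finset.sum_filter, Finset.sum_const,
    smul_eq_mul, Nat.card_eq_fintype_card, Fintype.card_subtype]

end RealFree

end CfsgLib.RealClassGraph
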