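import Cfsg.Agent.Lib.RealClassGraph.Basic
import Cfsg.Agent.Lib.Hall.Basic

/-!
In a solvable group whose Sylow `2`-subgroup is normalized by a Sylow `r`-subgroup, `r` odd, the
subgroup generated by the `2`-elements has order prime to `r`.
-/

set_option autoImplicit false
set_option linter.style.haveILetI false

namespace CfsgLib.RealClassGraph

universe u

/-- The subgroup generated by the `2`-elements. -/
def twoGen (G : Type u) [Group G] : Subgroup G :=
  Subgroup.closure {g : G | ∃ k : ℕ, orderOf g = 2 ^ k}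

theorem mem_twoGen {G : Type u} [Group G] {g : G} (hg : ∃ k : ℕ, g ^ 2 ^ k = 1) :
    g ∈ twoGen G := by
  obtain ⟨k, hk⟩ := hg
  obtain ⟨j, -, hj⟩ := (Nat.dvd_prime_pow Nat.prime_two).mp (orderOf_dvd_of_pow_eq_one hk)
  exact Subgroup.subset_closure ⟨j, hj⟩

instance twoGen_normal (G : Type u) [Group G] : (twoGen G).Normal := by
  refine ⟨fun x hx g => ?_⟩
  have hle : twoGen G ≤ (twoGen G).comap (MulAut.conj g).toMonoidHom := by
    refine (Subgroup.closure_le _).mpr ?_
    rintro y ⟨k, hk⟩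
    refine Subgroup.subset_closure ⟨k, ?_⟩
    rw [← hk]
    exact orderOf_injective (MulAut.conj g).toMonoidHom (MulAut.conj g).injective y
  exact hle hx

theorem map_twoGen_le {G G' : Type*} [Group G] [Group G'] (f : G →* G') :
    (twoGen G).map f ≤ twoGen G' := by
  rw [Subgroup.map_le_iff_le_comap]
  refine (Subgroup.closure_le _).mpr ?_
  rintro y ⟨k, hk⟩
  exact mem_twoGen ⟨k, by rw [← map_pow, ← hk, pow_orderOf_eq_one, map_one]⟩

theorem not_dvd_card_twoGen {r : ℕ} [hr : Fact r.Prime] (hr2 : r ≠ 2) :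
    ∀ (n : ℕ) (G : Type u) [Group G] [Finite G], Nat.card G = n → Group.IsSolvable G →
      (∃ (T : Sylow 2 G) (R : Sylow r G),
        (R : Subgroup G) ≤ Subgroup.normalizer ((T : Subgroup G) : Set G)) →
      ¬ r ∣ Nat.card (twoGen G) := by
  intro n
  induction n using Nat.strong_induction_on with
  | _ n ih =>
  intro G _ _ hn hsolv ⟨T, R, hRT⟩ hdvd
  haveI : Fact (Nat.Prime 2) := ⟨Nat.prime_two⟩
  haveI := hsolv
  set K := twoGen G with hK
  haveI : Nontrivial K := by
    rcases subsingleton_or_nontrivial K with hs | hs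
    · rw [Nat.card_unique] at hdvd
      exact absurd (Nat.dvd_one.mp hdvd) hr.out.one_lt.ne'
    · exact hs
  obtain ⟨p, hp, N₀, hN₀n, hN₀ne, hN₀p, -⟩ := Hall.exists_normal_pgroup_ne_bot (G := K)
  haveI := Fact.mk hp
  -- its normal closure in `G` is the `p`-core of `K`
  haveI hcn : (Cfsg.pCore p K).Normal := Fitting.pCore_normal p
  haveI : (Cfsg.pCore p K).Characteristic := by
    refine Subgroup.characteristic_iff_map_le.mpr fun φ => ?_
    exact Fitting.le_pCore (hcn.map φ.toMonoidHom φ.surjective) ((Fitting.pCore_isPGroup p).map _)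
  set N := (Cfsg.pCore p K).map K.subtype with hN
  haveI : N.Normal := ConjAct.normal_of_characteristic_of_normal
  have hNK : N ≤ K := Subgroup.map_subtype_le _
  have hNp : IsPGroup p N := (Fitting.pCore_isPGroup p).map _
  have hNne : N ≠ ⊥ := by
    rw [hN, Ne, Subgroup.map_eq_bot_iff_of_injective _ K.subtype_injective]
    exact fun h => hN₀ne (le_bot_iff.mp (h ▸ Fitting.le_pCore hN₀n hN₀p))
  have hsurj := QuotientGroup.mk'_surjective N
  have hlt : Nat.card (G ⧸ N) < n := by
    rw [← hn, Subgroup.card_eq_card_quotient_mul_card_subgroup N]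
    exact lt_mul_of_one_lt_right Nat.card_pos ((Subgroup.one_lt_card_iff_ne_bot N).mpr hNne)
  have hq := ih _ hlt (G ⧸ N) rfl inferInstance ⟨T.mapSurjective hsurj, R.mapSurjective hsurj, by
    show (R : Subgroup G).map (QuotientGroup.mk' N) ≤
      Subgroup.normalizer (((T : Subgroup G).map (QuotientGroup.mk' N) : Subgroup (G ⧸ N)) : Set (G ⧸ N))
    exact (Subgroup.map_mono hRT).trans (Subgroup.le_normalizer_map _)⟩
  have hidx : ¬ r ∣ (N.subgroupOf K).index := by
    intro h
    apply hq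
    have hc : (N.subgroupOf K).index = Nat.card (K.map (QuotientGroup.mk' N)) := by
      have h1 := Subgroup.index_ker ((QuotientGroup.mk' N).comp K.subtype)
      rw [MonoidHom.range_comp, Subgroup.range_subtype, ← MonoidHom.comap_ker,
        QuotientGroup.ker_mk'] at h1
      exact h1
    exact (hc ▸ h).trans (Subgroup.card_dvd_of_le (map_twoGen_le _))
  have hsplit : Nat.card (N.subgroupOf K) * (N.subgroupOf K).index = Nat.card K :=
    Subgroup.card_mul_index _
  have hcardN : Nat.card (N.subgroupOf K) = Nat.card N :=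
    Nat.card_congr (Subgroup.subgroupOfEquivOfLe hNK).toEquiv
  have hrN : r ∣ Nat.card N := by
    rw [← hsplit, hcardN] at hdvd
    exact (hr.out.dvd_mul.mp hdvd).resolve_right hidx
  obtain rfl : r = p := by
    obtain ⟨k, hk⟩ := IsPGroup.iff_card.mp hNp
    rw [hk] at hrN
    exact (Nat.prime_dvd_prime_iff_eq hr.out hp).mp (hr.out.dvd_of_dvd_pow hrN)
  -- `N` is centralized by the Sylow `2`-subgroup, hence central in `K`
  have hNR : N ≤ (R : Subgroup G) := IsPGroup.le_sylow_of_normal hNp R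
  have hcomm : ∀ x ∈ N, ∀ s ∈ (T : Subgroup G), s * x = x * s := by
    intro x hx s hs
    have h1 : s * x * s⁻¹ * x⁻¹ ∈ N ⊓ (T : Subgroup G) := by
      refine Subgroup.mem_inf.mpr ⟨mul_mem (Subgroup.Normal.conj_mem inferInstance x hx s)
        (inv_mem hx), ?_⟩
      rw [show s * x * s⁻¹ * x⁻¹ = s * (x * s⁻¹ * x⁻¹) by group]
      exact mul_mem hs ((Subgroup.mem_normalizer_iff.mp (hRT (hNR hx)) _).mp (inv_mem hs))
    exact mul_inv_eq_iff_eq_mul.mp (mul_inv_eq_one.mp (Subgroup.disjoint_def.mp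
      (IsPGroup.disjoint_of_ne r 2 hr2 N (T : Subgroup G) hNp T.2)
      (Subgroup.mem_inf.mp h1).1 (Subgroup.mem_inf.mp h1).2))
  have hcen : K ≤ Subgroup.centralizer (N : Set G) := by
    refine (Subgroup.closure_le _).mpr ?_
    rintro y ⟨k, hk⟩
    obtain ⟨Q, hQ⟩ := (IsPGroup.of_card (p := 2) (G := Subgroup.zpowers y) (n := k)
      (by rw [Nat.card_zpowers, hk])).exists_le_sylow
    obtain ⟨g, rfl⟩ := MulAction.exists_smul_eq G T Q
    have hy := hQ (Subgroup.mem_zpowers y)
    rw [Sylow.coe_subgroup_smul, Subgroup.mem_pointwise_smul_iff_inv_smul_mem, ← map_inv,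
      MulAut.smul_def, MulAut.conj_apply, inv_inv] at hy
    refine Subgroup.mem_centralizer_iff.mpr fun x hx => ?_
    have := hcomm (g⁻¹ * x * g)
      (by simpa using Subgroup.Normal.conj_mem (inferInstance : N.Normal) x hx g⁻¹) _ hy
    calc x * y = g * ((g⁻¹ * x * g) * (g⁻¹ * y * g)) * g⁻¹ := by group
      _ = g * ((g⁻¹ * y * g) * (g⁻¹ * x * g)) * g⁻¹ := by rw [this]
      _ = y * x := by group
  haveI : (N.subgroupOf K).Normal := Subgroup.Normal.subgroupOf inferInstance K
  obtain ⟨L, hL⟩ := Subgroup.exists_right_complement'_of_coprime (N := N.subgroupOf K) (by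
    obtain ⟨k, hk⟩ := IsPGroup.iff_card.mp hNp
    rw [hcardN, hk]
    exact (hr.out.coprime_iff_not_dvd.mpr hidx).pow_left k)
  have hNz : ∀ a ∈ N.subgroupOf K, ∀ b : K, a * b = b * a := fun a ha b =>
    Subtype.ext (Subgroup.mem_centralizer_iff.mp (hcen b.2) (a : G) ha)
  haveI : L.Normal := ⟨fun l hl b => by
    obtain ⟨⟨a, c⟩, he⟩ := hL.2 b
    have hb : (a : K) * (c : K) = b := he
    rw [← hb, show (a : K) * c * l * ((a : K) * c)⁻¹ = (a : K) * ((c : K) * l * (c : K)⁻¹) * (a : K)⁻¹ by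
      group, hNz a a.2, mul_inv_cancel_right]
    exact mul_mem (mul_mem c.2 hl) (inv_mem c.2)⟩
  have hodd : Odd L.index := by
    rw [hL.index_eq_card, hcardN]
    obtain ⟨k, hk⟩ := IsPGroup.iff_card.mp hNp
    rw [hk]
    exact (hr.out.odd_of_ne_two hr2).pow
  have htop : K ≤ L.map K.subtype := by
    refine (Subgroup.closure_le _).mpr ?_
    rintro y ⟨k, hk⟩
    refine ⟨⟨y, Subgroup.subset_closure ⟨k, hk⟩⟩, ?_, rfl⟩
    have hy : (⟨y, Subgroup.subset_closure ⟨k, hk⟩⟩ : K) ^ 2 ^ k = 1 :=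
      Subtype.ext (by show y ^ 2 ^ k = 1; rw [← hk]; exact pow_orderOf_eq_one y)
    refine (QuotientGroup.eq_one_iff (N := L) _).mp (orderOf_eq_one_iff.mp ?_)
    refine Nat.eq_one_of_dvd_coprimes ((Nat.coprime_two_left.mpr hodd).pow_left k)
      ((orderOf_map_dvd (QuotientGroup.mk' L) _).trans (orderOf_dvd_of_pow_eq_one hy)) ?_
    rw [Subgroup.index_eq_card]
    exact orderOf_dvd_natCard _
  have hLtop : L = ⊤ := eq_top_iff.mpr fun b _ => by
    obtain ⟨l, hl, he⟩ := htop b.2
    exact Subtype.ext he ▸ hl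
  have h1 := hL.index_eq_card
  rw [hLtop, Subgroup.index_top, hcardN] at h1
  rw [← h1] at hrN
  exact hr.out.one_lt.ne' (Nat.dvd_one.mp hrN)

end CfsgLib.RealClassGraph
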