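import Cfsg.Agent.Lib.RealClassGraph.Reduction
import Cfsg.Agent.Lib.RealClassGraph.TwoGen

/-!
The structure of a group in which the real class sizes split along a set of primes.
-/

set_option autoImplicit false
set_option linter.style.haveILetI false

namespace CfsgLib.RealClassGraph

open CfsgLib.CentMaxNormal

universe u

variable {G : Type u} [Group G] [Finite G]

/-- If all real class sizes are odd, two real elements with coprime non-trivial class
sizes force a real element whose class size meets both. -/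
theorem false_of_all_odd {π π' : Set ℕ} (hall : ∀ x : G, IsReal x → ¬ 2 ∣ (cen x).index)
    (hno : ∀ a ∈ π, ∀ b ∈ π', ∀ x : G, IsReal x → ¬ (a ∣ (cen x).index ∧ b ∣ (cen x).index))
    (hcov : ∀ p : ℕ, p.Prime → (∃ x : G, IsReal x ∧ p ∣ (cen x).index) → p ∈ π ∨ p ∈ π')
    {u v : G} (hu : IsReal u) (hv : IsReal v) {a b : ℕ} (hap : a.Prime) (hbp : b.Prime)
    (ha : a ∈ π) (hau : a ∣ (cen u).index) (hb : b ∈ π') (hbv : b ∣ (cen v).index) : False := by
  classical
  haveI : Fact (Nat.Prime 2) := ⟨Nat.prime_two⟩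
  have hsq : ∀ x : G, IsReal x → x * x = 1 := fun x hx => by
    by_contra hne
    exact hall x hx (two_dvd_index hx fun e => hne (by nth_rewrite 2 [e]; exact mul_inv_cancel x))
  obtain ⟨T⟩ : Nonempty (Sylow 2 G) := inferInstance
  have hTn : (T : Subgroup G).Normal :=
    normal_sylow_two_of_forall (fun x hx ho => eq_one_of_odd_of_sq ho (hsq x hx)) T
  haveI := Sylow.unique_of_normal T hTn
  have hcT : ∀ x : G, IsReal x → (T : Subgroup G) ≤ cen x := fun x hx => by
    obtain ⟨P, hP⟩ := ClassGraph.exists_sylow_le_cen (y := x) (hall x hx)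
    rwa [Subsingleton.elim T P]
  have hmemT : ∀ x : G, IsReal x → x ∈ (T : Subgroup G) := fun x hx =>
    mem_sylow_of_two_element T ⟨1, by rw [pow_one, pow_two, hsq x hx]⟩
      (Subgroup.le_normalizer_of_normal (H := (T : Subgroup G)) (K := ⊤) trivial)
  have hcomm : ∀ x y : G, IsReal x → IsReal y → x * y = y * x := fun x y hx hy =>
    mem_cen.mp (hcT y hy (hmemT x hx))
  have hπ : ∀ (x : G), IsReal x → (∃ c ∈ π, c ∣ (cen x).index) →
      ∀ p : ℕ, p.Prime → p ∣ (cen x).index → p ∈ π := fun x hx ⟨c, hc, hcd⟩ p hp hpd =>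
    (hcov p hp ⟨x, hx, hpd⟩).resolve_right fun h' => hno c hc p h' x hx ⟨hcd, hpd⟩
  have hπ' : ∀ (x : G), IsReal x → (∃ c ∈ π', c ∣ (cen x).index) →
      ∀ p : ℕ, p.Prime → p ∣ (cen x).index → p ∈ π' := fun x hx ⟨c, hc, hcd⟩ p hp hpd =>
    (hcov p hp ⟨x, hx, hpd⟩).resolve_left fun h' => hno p h' c hc x hx ⟨hpd, hcd⟩
  have hnot : ∀ p : ℕ, p ∈ π → p ∈ π' → ∀ x : G, IsReal x → ¬ p ∣ (cen x).index :=
    fun p h1 h2 x hx hd => hno p h1 p h2 x hx ⟨hd, hd⟩
  have hcop : (cen u).index.Coprime (cen v).index :=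
    Nat.coprime_of_dvd fun p hp hpu hpv =>
      hnot p (hπ u hu ⟨a, ha, hau⟩ p hp hpu) (hπ' v hv ⟨b, hb, hbv⟩ p hp hpv) u hu hpu
  have hu2 := hsq u hu
  have hv2 := hsq v hv
  have huv : Commute u v := hcomm u v hu hv
  set s := u * v with hs
  have hs2 : s * s = 1 := by
    rw [hs, show u * v * (u * v) = u * (v * u) * v by group, ← huv.eq,
      show u * (u * v) * v = (u * u) * (v * v) by group, hu2, hv2, one_mul]
  have hsr : IsReal s := isReal_of_sq hs2
  -- the key: a factor whose class size is prime to that of the product is central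
  have key : ∀ y z : G, IsReal y → IsReal z → y * z = s →
      (cen y).index.Coprime (cen z).index → (cen s).index.Coprime (cen z).index →
      (cen z).index = 1 := by
    intro y z hy hz hyz hyzc hszc
    have hy2 := hsq y hy
    have hz2 := hsq z hz
    have hinf : cen y ⊓ cen z = cen s ⊓ cen z := by
      ext c
      simp only [Subgroup.mem_inf, mem_cen]
      refine and_congr_left fun hcz => ⟨fun hcy => ?_, fun hcs => ?_⟩
      · rw [← hyz]; exact (Commute.mul_right (show Commute c y from hcy) (show Commute c z from hcz)).eq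
      · have := Commute.mul_right (show Commute c s from hcs) (show Commute c z from hcz)
        rwa [← hyz, mul_assoc, hz2, mul_one] at this
    have hns : (cen s).index = (cen y).index := by
      have h1 := ClassGraph.index_inf_of_coprime hyzc
      rw [hinf, ClassGraph.index_inf_of_coprime hszc] at h1
      exact Nat.eq_of_mul_eq_mul_right (Nat.pos_of_ne_zero Subgroup.index_ne_zero_of_finite) h1
    have hcard : ∀ x : G, (ClassGraph.cls x).ncard = (cen x).index := fun x => by
      rw [← Nat.card_coe_set_eq, ClassGraph.card_cls]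
    have hmem : ∀ c d : G, c * y * c⁻¹ * (d * z * d⁻¹) ∈ ClassGraph.cls s := by
      intro c d
      obtain ⟨k, hk, l, hl, he⟩ := ClassGraph.exists_mul_of_coprime hyzc (c⁻¹ * d)
      rw [mem_cen] at hk hl
      refine ⟨c * k, ?_⟩
      show c * k * s * (c * k)⁻¹ = _
      rw [show d = c * (c⁻¹ * d) by group, he, ← hyz,
        show c * k * (y * z) * (c * k)⁻¹ = c * ((k * y) * z) * k⁻¹ * c⁻¹ by group, hk,
        show c * (k * l) * z * (c * (k * l))⁻¹ = c * k * (l * z) * l⁻¹ * k⁻¹ * c⁻¹ by group, hl]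
      group
    have hsurj : ∀ d : G, (fun w => w * (d * z * d⁻¹)) '' ClassGraph.cls y = ClassGraph.cls s := by
      intro d
      refine Set.eq_of_subset_of_ncard_le ?_ ?_ (Set.toFinite _)
      · rintro _ ⟨_, ⟨c, rfl⟩, rfl⟩
        exact hmem c d
      · rw [Set.ncard_image_of_injective _ (mul_left_injective _), hcard, hcard, hns]
    rw [Subgroup.index_eq_one]
    refine eq_top_iff.mpr fun d _ => mem_cen.mpr ?_
    set t := z * (d * z * d⁻¹) with ht
    have hdz : IsReal (d * z * d⁻¹) := isReal_conj hz d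
    have ht2 : t * t = 1 := hsq t (isReal_of_sq (by
      rw [ht, show z * (d * z * d⁻¹) * (z * (d * z * d⁻¹)) =
        z * ((d * z * d⁻¹) * z) * (d * z * d⁻¹) by group, hcomm _ _ hdz hz,
        show z * (z * (d * z * d⁻¹)) * (d * z * d⁻¹) =
          (z * z) * ((d * z * d⁻¹) * (d * z * d⁻¹)) by group, hz2, hsq _ hdz, one_mul]))
    have hmap : ∀ w ∈ ClassGraph.cls y, w * t ∈ ClassGraph.cls y := by
      intro w hw
      have : w * z ∈ ClassGraph.cls s := by
        rw [← hsurj 1]; exact ⟨w, hw, by simp⟩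
      rw [← hsurj d] at this
      obtain ⟨w', hw', he⟩ := this
      have he' : w' * (d * z * d⁻¹) = w * z := he
      rwa [ht, ← mul_assoc, ← he', mul_assoc, hsq _ hdz, mul_one]
    have ht1 : t = 1 := by
      by_contra ht1
      haveI := Fintype.ofFinite (ClassGraph.cls y)
      let σ : Equiv.Perm (ClassGraph.cls y) :=
        { toFun := fun w => ⟨w * t, hmap _ w.2⟩
          invFun := fun w => ⟨w * t, hmap _ w.2⟩
          left_inv := fun w => Subtype.ext (by simp [mul_assoc, ht2])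
          right_inv := fun w => Subtype.ext (by simp [mul_assoc, ht2]) }
      have hc : ¬ 2 ∣ Fintype.card (ClassGraph.cls y) := by
        rw [← Nat.card_eq_fintype_card, ClassGraph.card_cls]
        exact hall y hy
      obtain ⟨w, hw⟩ := Equiv.Perm.exists_fixed_point_of_prime hc (σ := σ) (n := 1)
        (by ext w; simp [pow_two, σ, mul_assoc, ht2])
      exact ht1 (mul_eq_left.mp (congrArg Subtype.val hw : (w : G) * t = w))
    have : d * z * d⁻¹ = z := by
      rw [← one_mul (d * z * d⁻¹), ← hz2, mul_assoc, ← ht, ht1, mul_one]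
    exact mul_inv_eq_iff_eq_mul.mp this
  by_cases hsb : (cen s).index.Coprime (cen v).index
  · rw [key u v hu hv rfl hcop hsb] at hbv
    exact hbp.one_lt.ne' (Nat.dvd_one.mp hbv)
  · obtain ⟨p, hp, hps, hpv⟩ := Nat.Prime.not_coprime_iff_dvd.mp hsb
    have hsu : (cen s).index.Coprime (cen u).index :=
      Nat.coprime_of_dvd fun q hq hqs hqu => hnot q (hπ u hu ⟨a, ha, hau⟩ q hq hqu)
        (hπ' s hsr ⟨p, hπ' v hv ⟨b, hb, hbv⟩ p hp hpv, hps⟩ q hq hqs) u hu hqu
    rw [key v u hv hu huv.symm.eq hcop.symm hsu] at hau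
    exact hap.one_lt.ne' (Nat.dvd_one.mp hau)

namespace Split

variable {π : Set ℕ} (h : Split π G)
include h

theorem prime_of_dvd_twoGen {r : ℕ} (hr : r.Prime) (hd : r ∣ Nat.card (twoGen G)) :
    r = 2 ∨ r ∈ π := by
  by_contra hc
  push Not at hc
  haveI := Fact.mk hr
  obtain ⟨t, ht, htf⟩ := h.nonempty
  obtain ⟨T, -, hTn⟩ := h.exists_sylow ht htf
  obtain ⟨R, hR⟩ := ClassGraph.exists_sylow_le_cen (r := r) (y := t)
    (fun hd' => hc.2 (h.closed t ht htf r hr hd'))
  exact not_dvd_card_twoGen hc.1 _ G rfl (solvable_of_split _ G rfl h) ⟨T, R, hR.trans hTn⟩ hd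

theorem twoGen_split (hns : ∀ P : Sylow 2 G, ¬ (P : Subgroup G).Normal) :
    (∃ y : twoGen G, IsReal y ∧ 2 ∣ (cen y).index) ∧
      (∃ y : twoGen G, IsReal y ∧ ∃ q, q.Prime ∧ q ∈ π ∧ q ∣ (cen y).index) ∧
      ∀ y : twoGen G, IsReal y → Odd (cen y).index ∨ ∃ j : ℕ, (cen y).index = 2 ^ j := by
  classical
  haveI : Fact (Nat.Prime 2) := ⟨Nat.prime_two⟩
  obtain ⟨P⟩ : Nonempty (Sylow 2 G) := inferInstance
  obtain ⟨x, hxr, hxo, hx1⟩ : ∃ x : G, IsReal x ∧ Odd (orderOf x) ∧ x ≠ 1 := by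
    by_contra hh
    push Not at hh
    exact hns P (normal_sylow_two_of_forall hh P)
  have hreal : ∀ y : G, IsReal y → ∃ i ∈ twoGen G, i * y * i⁻¹ = y⁻¹ := fun y ⟨g, hg⟩ => by
    obtain ⟨i, -, hi, hiy⟩ := ZJ.exists_two_inverter hg
    exact ⟨i, mem_twoGen hi, hiy⟩
  obtain ⟨i, hi, hix⟩ := hreal x hxr
  have hxK : x ∈ twoGen G := by
    have h2 : (x * x)⁻¹ ∈ twoGen G := by
      rw [show (x * x)⁻¹ = (i * x * i⁻¹) * x⁻¹ by rw [hix, mul_inv_rev],
        show i * x * i⁻¹ * x⁻¹ = i * (x * i⁻¹ * x⁻¹) by group]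
      exact mul_mem hi (Subgroup.Normal.conj_mem inferInstance _ (inv_mem hi) x)
    obtain ⟨j, hj⟩ := hxo
    have h3 : x = ((x * x) ^ (j + 1)) := by
      rw [← pow_two, ← pow_mul, show 2 * (j + 1) = orderOf x + 1 by omega, pow_succ,
        pow_orderOf_eq_one, one_mul]
    rw [h3]
    exact pow_mem (inv_mem_iff.mp h2) _
  have hdvd : ∀ y : twoGen G, (cen y).index ∣ (cen (y : G)).index := fun y => by
    refine dvd_trans ?_ (ClassGraph.relIndex_dvd_of_normal (cen (y : G)) (twoGen G))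
    refine dvd_of_eq (congrArg Subgroup.index ?_)
    ext c
    rw [Subgroup.mem_subgroupOf, mem_cen, mem_cen]
    exact Subtype.ext_iff
  refine ⟨⟨⟨x, hxK⟩, ⟨⟨i, hi⟩, Subtype.ext hix⟩, two_dvd_index ⟨⟨i, hi⟩, Subtype.ext hix⟩
    (fun e => hx1 (eq_one_of_odd_of_eq_inv hxo (congrArg Subtype.val e)))⟩, ?_, ?_⟩
  · obtain ⟨t, ht, htf⟩ := h.nonempty
    have ht2 := h.sq_eq_one ht htf
    have htK : t ∈ twoGen G := mem_twoGen ⟨1, by rw [pow_one, pow_two, ht2]⟩
    refine ⟨⟨t, htK⟩, isReal_of_sq (Subtype.ext ht2), ?_⟩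
    have hne : (cen (⟨t, htK⟩ : twoGen G)).index ≠ 1 := fun e => by
      have hmem : (⟨x, hxK⟩ : twoGen G) ∈ cen (⟨t, htK⟩ : twoGen G) := by
        rw [Subgroup.index_eq_one.mp e]; trivial
      exact h.not_commute hxr hxo hx1 ht htf (congrArg Subtype.val (mem_cen.mp hmem)).symm
    obtain ⟨q, hq, hqd⟩ := Nat.exists_prime_and_dvd hne
    exact ⟨q, hq, h.closed t ht htf q hq (hqd.trans (hdvd _)), hqd⟩
  · intro y hy
    by_cases h2 : 2 ∣ (cen y).index
    · refine Or.inr ?_
      have hyG : IsReal (y : G) := hy.map (twoGen G).subtype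
      have hfree : Free π (y : G) := by
        by_contra hf
        exact h.two (h.closed _ hyG hf 2 Nat.prime_two (h2.trans (hdvd y)))
      refine ⟨_, Nat.eq_prime_pow_of_unique_prime_dvd Subgroup.index_ne_zero_of_finite
        (p := 2) fun {q} hq hqd => ?_⟩
      rcases h.prime_of_dvd_twoGen hq (hqd.trans (Subgroup.index_dvd_card _)) with h' | h'
      · exact h'
      · exact absurd (hqd.trans (hdvd y)) (hfree q hq h')
    · exact Or.inl (Nat.not_even_iff_odd.mp fun e => h2 e.two_dvd)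

end Split

end CfsgLib.RealClassGraph
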